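import Cfsg.Agent.Lib.Helper9.TCData.X1681.Main

set_option autoImplicit false
set_option maxRecDepth 1000000

namespace Cfsg.Agent.Helper9.TCData.X1681
open Cfsg.Agent.Helper9.TC2

theorem e0_8 : allRange 23925 2600 (fun u => chkE tab 0 u) = true := by decide +kernel

theorem e0_9 : allRange 26525 2677 (fun u => chkE tab 0 u) = true := by decide +kernel

theorem e0_10 : allRange 29202 2660 (fun u => chkE tab 0 u) = true := by decide +kernel

theorem e0_11 : allRange 31862 1525 (fun u => chkE tab 0 u) = true := by decide +kernel

theorem e1_0 : allRange 0 3290 (fun u => chkE tab 1 u) = true := by decide +kernel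

theorem e1_1 : allRange 3290 4798 (fun u => chkE tab 1 u) = true := by decide +kernel

theorem e1_2 : allRange 8088 4001 (fun u => chkE tab 1 u) = true := by decide +kernel

theorem e1_3 : allRange 12089 3140 (fun u => chkE tab 1 u) = true := by decide +kernel


end Cfsg.Agent.Helper9.TCData.X1681
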