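import Cfsg.Agent.Lib.Helper9.TCData.X1681.Main

set_option autoImplicit false
set_option maxRecDepth 1000000

namespace Cfsg.Agent.Helper9.TCData.X1681
open Cfsg.Agent.Helper9.TC2

theorem f_32 : allRange 11136 348 (fun u => chkFin tab u) = true := by decide +kernel

theorem f_33 : allRange 11484 348 (fun u => chkFin tab u) = true := by decide +kernel

theorem f_34 : allRange 11832 348 (fun u => chkFin tab u) = true := by decide +kernel

theorem f_35 : allRange 12180 348 (fun u => chkFin tab u) = true := by decide +kernel

theorem f_36 : allRange 12528 348 (fun u => chkFin tab u) = true := by decide +kernel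

theorem f_37 : allRange 12876 348 (fun u => chkFin tab u) = true := by decide +kernel

theorem f_38 : allRange 13224 348 (fun u => chkFin tab u) = true := by decide +kernel

theorem f_39 : allRange 13572 348 (fun u => chkFin tab u) = true := by decide +kernel


end Cfsg.Agent.Helper9.TCData.X1681
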