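import Cfsg.Agent.Lib.Helper9.TCData.X1681.Main

set_option autoImplicit false
set_option maxRecDepth 1000000

namespace Cfsg.Agent.Helper9.TCData.X1681
open Cfsg.Agent.Helper9.TC2

theorem e1_4 : allRange 15229 3479 (fun u => chkE tab 1 u) = true := by decide +kernel

theorem e1_5 : allRange 18708 2669 (fun u => chkE tab 1 u) = true := by decide +kernel

theorem e1_6 : allRange 21377 2655 (fun u => chkE tab 1 u) = true := by decide +kernel

theorem e1_7 : allRange 24032 2714 (fun u => chkE tab 1 u) = true := by decide +kernel

theorem e1_8 : allRange 26746 2671 (fun u => chkE tab 1 u) = true := by decide +kernel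

theorem e1_9 : allRange 29417 2692 (fun u => chkE tab 1 u) = true := by decide +kernel

theorem e1_10 : allRange 32109 1278 (fun u => chkE tab 1 u) = true := by decide +kernel

theorem e2_0 : allRange 0 2767 (fun u => chkE tab 2 u) = true := by decide +kernel


end Cfsg.Agent.Helper9.TCData.X1681
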