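import Cfsg.Agent.Lib.Helper9.TCData.X1681.Main

set_option autoImplicit false
set_option maxRecDepth 1000000

namespace Cfsg.Agent.Helper9.TCData.X1681
open Cfsg.Agent.Helper9.TC2

theorem m2_14 : allRange 784 56 (fun u => chkFix tab mwords u) = true := by decide +kernel

theorem m2_15 : allRange 840 56 (fun u => chkFix tab mwords u) = true := by decide +kernel

theorem m2_16 : allRange 896 56 (fun u => chkFix tab mwords u) = true := by decide +kernel

theorem m2_17 : allRange 952 56 (fun u => chkFix tab mwords u) = true := by decide +kernel

theorem m2_18 : allRange 1008 56 (fun u => chkFix tab mwords u) = true := by decide +kernel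

theorem m2_19 : allRange 1064 56 (fun u => chkFix tab mwords u) = true := by decide +kernel

theorem m2_20 : allRange 1120 56 (fun u => chkFix tab mwords u) = true := by decide +kernel

theorem m2_21 : allRange 1176 56 (fun u => chkFix tab mwords u) = true := by decide +kernel


end Cfsg.Agent.Helper9.TCData.X1681
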