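import Cfsg.Agent.Lib.Helper9.TCData.X1681.Main

set_option autoImplicit false
set_option maxRecDepth 1000000

namespace Cfsg.Agent.Helper9.TCData.X1681
open Cfsg.Agent.Helper9.TC2

theorem m2_22 : allRange 1232 56 (fun u => chkFix tab mwords u) = true := by decide +kernel

theorem m2_23 : allRange 1288 56 (fun u => chkFix tab mwords u) = true := by decide +kernel

theorem m2_24 : allRange 1344 56 (fun u => chkFix tab mwords u) = true := by decide +kernel

theorem m2_25 : allRange 1400 56 (fun u => chkFix tab mwords u) = true := by decide +kernel

theorem m2_26 : allRange 1456 56 (fun u => chkFix tab mwords u) = true := by decide +kernel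

theorem m2_27 : allRange 1512 56 (fun u => chkFix tab mwords u) = true := by decide +kernel

theorem m2_28 : allRange 1568 56 (fun u => chkFix tab mwords u) = true := by decide +kernel

theorem m2_29 : allRange 1624 56 (fun u => chkFix tab mwords u) = true := by decide +kernel


end Cfsg.Agent.Helper9.TCData.X1681
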