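import Cfsg.Agent.Lib.Helper9.TCData.X1681.Main

set_option autoImplicit false
set_option maxRecDepth 1000000

namespace Cfsg.Agent.Helper9.TCData.X1681
open Cfsg.Agent.Helper9.TC2

theorem m2_38 : allRange 2128 56 (fun u => chkFix tab mwords u) = true := by decide +kernel

theorem m2_39 : allRange 2184 56 (fun u => chkFix tab mwords u) = true := by decide +kernel

theorem m2_40 : allRange 2240 56 (fun u => chkFix tab mwords u) = true := by decide +kernel

theorem m2_41 : allRange 2296 56 (fun u => chkFix tab mwords u) = true := by decide +kernel

theorem m2_42 : allRange 2352 56 (fun u => chkFix tab mwords u) = true := by decide +kernel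

theorem m2_43 : allRange 2408 56 (fun u => chkFix tab mwords u) = true := by decide +kernel

theorem m2_44 : allRange 2464 56 (fun u => chkFix tab mwords u) = true := by decide +kernel

theorem m2_45 : allRange 2520 56 (fun u => chkFix tab mwords u) = true := by decide +kernel


end Cfsg.Agent.Helper9.TCData.X1681
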