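import Cfsg.Agent.Lib.Helper9.TCData.X1681.Main

set_option autoImplicit false
set_option maxRecDepth 1000000

namespace Cfsg.Agent.Helper9.TCData.X1681
open Cfsg.Agent.Helper9.TC2

theorem m2_46 : allRange 2576 56 (fun u => chkFix tab mwords u) = true := by decide +kernel

theorem m2_47 : allRange 2632 56 (fun u => chkFix tab mwords u) = true := by decide +kernel

theorem m2_48 : allRange 2688 56 (fun u => chkFix tab mwords u) = true := by decide +kernel

theorem m2_49 : allRange 2744 56 (fun u => chkFix tab mwords u) = true := by decide +kernel

theorem m2_50 : allRange 2800 56 (fun u => chkFix tab mwords u) = true := by decide +kernel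

theorem m2_51 : allRange 2856 56 (fun u => chkFix tab mwords u) = true := by decide +kernel

theorem m2_52 : allRange 2912 56 (fun u => chkFix tab mwords u) = true := by decide +kernel

theorem m2_53 : allRange 2968 56 (fun u => chkFix tab mwords u) = true := by decide +kernel


end Cfsg.Agent.Helper9.TCData.X1681
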