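import Cfsg.Agent.Lib.Helper9.TCData.X1681.Main

set_option autoImplicit false
set_option maxRecDepth 1000000

namespace Cfsg.Agent.Helper9.TCData.X1681
open Cfsg.Agent.Helper9.TC2

theorem m2_102 : allRange 5712 56 (fun u => chkFix tab mwords u) = true := by decide +kernel

theorem m2_103 : allRange 5768 56 (fun u => chkFix tab mwords u) = true := by decide +kernel

theorem m2_104 : allRange 5824 56 (fun u => chkFix tab mwords u) = true := by decide +kernel

theorem m2_105 : allRange 5880 56 (fun u => chkFix tab mwords u) = true := by decide +kernel

theorem m2_106 : allRange 5936 56 (fun u => chkFix tab mwords u) = true := by decide +kernel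

theorem m2_107 : allRange 5992 56 (fun u => chkFix tab mwords u) = true := by decide +kernel

theorem m2_108 : allRange 6048 56 (fun u => chkFix tab mwords u) = true := by decide +kernel

theorem m2_109 : allRange 6104 56 (fun u => chkFix tab mwords u) = true := by decide +kernel


end Cfsg.Agent.Helper9.TCData.X1681
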