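import Cfsg.Agent.Lib.Helper9.TCData.X1681.Main

set_option autoImplicit false
set_option maxRecDepth 1000000

namespace Cfsg.Agent.Helper9.TCData.X1681
open Cfsg.Agent.Helper9.TC2

theorem e2_9 : allRange 27578 2501 (fun u => chkE tab 2 u) = true := by decide +kernel

theorem e2_10 : allRange 30079 2476 (fun u => chkE tab 2 u) = true := by decide +kernel

theorem e2_11 : allRange 32555 832 (fun u => chkE tab 2 u) = true := by decide +kernel

theorem e3_0 : allRange 0 2447 (fun u => chkE tab 3 u) = true := by decide +kernel

theorem e3_1 : allRange 2447 2752 (fun u => chkE tab 3 u) = true := by decide +kernel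

theorem e3_2 : allRange 5199 5536 (fun u => chkE tab 3 u) = true := by decide +kernel

theorem e3_3 : allRange 10735 2601 (fun u => chkE tab 3 u) = true := by decide +kernel

theorem e3_4 : allRange 13336 2817 (fun u => chkE tab 3 u) = true := by decide +kernel


end Cfsg.Agent.Helper9.TCData.X1681
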