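import Cfsg.Agent.Lib.Helper9.TCData.X1681.Main

set_option autoImplicit false
set_option maxRecDepth 1000000

namespace Cfsg.Agent.Helper9.TCData.X1681
open Cfsg.Agent.Helper9.TC2

theorem m2_158 : allRange 8848 56 (fun u => chkFix tab mwords u) = true := by decide +kernel

theorem m2_159 : allRange 8904 56 (fun u => chkFix tab mwords u) = true := by decide +kernel

theorem m2_160 : allRange 8960 56 (fun u => chkFix tab mwords u) = true := by decide +kernel

theorem m2_161 : allRange 9016 56 (fun u => chkFix tab mwords u) = true := by decide +kernel

theorem m2_162 : allRange 9072 56 (fun u => chkFix tab mwords u) = true := by decide +kernel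

theorem m2_163 : allRange 9128 56 (fun u => chkFix tab mwords u) = true := by decide +kernel

theorem m2_164 : allRange 9184 56 (fun u => chkFix tab mwords u) = true := by decide +kernel

theorem m2_165 : allRange 9240 56 (fun u => chkFix tab mwords u) = true := by decide +kernel


end Cfsg.Agent.Helper9.TCData.X1681
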