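import Cfsg.Agent.Lib.Helper9.TCData.X1681.Main

set_option autoImplicit false
set_option maxRecDepth 1000000

namespace Cfsg.Agent.Helper9.TCData.X1681
open Cfsg.Agent.Helper9.TC2

theorem m2_174 : allRange 9744 56 (fun u => chkFix tab mwords u) = true := by decide +kernel

theorem m2_175 : allRange 9800 56 (fun u => chkFix tab mwords u) = true := by decide +kernel

theorem m2_176 : allRange 9856 56 (fun u => chkFix tab mwords u) = true := by decide +kernel

theorem m2_177 : allRange 9912 56 (fun u => chkFix tab mwords u) = true := by decide +kernel

theorem m2_178 : allRange 9968 56 (fun u => chkFix tab mwords u) = true := by decide +kernel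

theorem m2_179 : allRange 10024 56 (fun u => chkFix tab mwords u) = true := by decide +kernel

theorem m2_180 : allRange 10080 56 (fun u => chkFix tab mwords u) = true := by decide +kernel

theorem m2_181 : allRange 10136 56 (fun u => chkFix tab mwords u) = true := by decide +kernel


end Cfsg.Agent.Helper9.TCData.X1681
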