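import Cfsg.Agent.Lib.Helper9.TCData.X1681.Main

set_option autoImplicit false
set_option maxRecDepth 1000000

namespace Cfsg.Agent.Helper9.TCData.X1681
open Cfsg.Agent.Helper9.TC2

theorem e3_5 : allRange 16153 3237 (fun u => chkE tab 3 u) = true := by decide +kernel

theorem e3_6 : allRange 19390 2672 (fun u => chkE tab 3 u) = true := by decide +kernel

theorem e3_7 : allRange 22062 2478 (fun u => chkE tab 3 u) = true := by decide +kernel

theorem e3_8 : allRange 24540 2598 (fun u => chkE tab 3 u) = true := by decide +kernel

theorem e3_9 : allRange 27138 2706 (fun u => chkE tab 3 u) = true := by decide +kernel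

theorem e3_10 : allRange 29844 2567 (fun u => chkE tab 3 u) = true := by decide +kernel

theorem e3_11 : allRange 32411 976 (fun u => chkE tab 3 u) = true := by decide +kernel

theorem e4_0 : allRange 0 2225 (fun u => chkE tab 4 u) = true := by decide +kernel


end Cfsg.Agent.Helper9.TCData.X1681
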