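import Cfsg.Agent.Lib.Helper9.TCData.X1681.Main

set_option autoImplicit false
set_option maxRecDepth 1000000

namespace Cfsg.Agent.Helper9.TCData.X1681
open Cfsg.Agent.Helper9.TC2

theorem m2_206 : allRange 11536 56 (fun u => chkFix tab mwords u) = true := by decide +kernel

theorem m2_207 : allRange 11592 56 (fun u => chkFix tab mwords u) = true := by decide +kernel

theorem m2_208 : allRange 11648 56 (fun u => chkFix tab mwords u) = true := by decide +kernel

theorem m2_209 : allRange 11704 56 (fun u => chkFix tab mwords u) = true := by decide +kernel

theorem m2_210 : allRange 11760 56 (fun u => chkFix tab mwords u) = true := by decide +kernel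

theorem m2_211 : allRange 11816 56 (fun u => chkFix tab mwords u) = true := by decide +kernel

theorem m2_212 : allRange 11872 56 (fun u => chkFix tab mwords u) = true := by decide +kernel

theorem m2_213 : allRange 11928 56 (fun u => chkFix tab mwords u) = true := by decide +kernel


end Cfsg.Agent.Helper9.TCData.X1681
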