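import Cfsg.Agent.Lib.Helper9.TCData.X1681.Main

set_option autoImplicit false
set_option maxRecDepth 1000000

namespace Cfsg.Agent.Helper9.TCData.X1681
open Cfsg.Agent.Helper9.TC2

theorem m2_214 : allRange 11984 56 (fun u => chkFix tab mwords u) = true := by decide +kernel

theorem m2_215 : allRange 12040 56 (fun u => chkFix tab mwords u) = true := by decide +kernel

theorem m2_216 : allRange 12096 56 (fun u => chkFix tab mwords u) = true := by decide +kernel

theorem m2_217 : allRange 12152 56 (fun u => chkFix tab mwords u) = true := by decide +kernel

theorem m2_218 : allRange 12208 56 (fun u => chkFix tab mwords u) = true := by decide +kernel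

theorem m2_219 : allRange 12264 56 (fun u => chkFix tab mwords u) = true := by decide +kernel

theorem m2_220 : allRange 12320 56 (fun u => chkFix tab mwords u) = true := by decide +kernel

theorem m2_221 : allRange 12376 56 (fun u => chkFix tab mwords u) = true := by decide +kernel


end Cfsg.Agent.Helper9.TCData.X1681
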