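import Cfsg.Agent.Lib.Helper9.TCData.X1681.Main

set_option autoImplicit false
set_option maxRecDepth 1000000

namespace Cfsg.Agent.Helper9.TCData.X1681
open Cfsg.Agent.Helper9.TC2

theorem m2_230 : allRange 12880 56 (fun u => chkFix tab mwords u) = true := by decide +kernel

theorem m2_231 : allRange 12936 56 (fun u => chkFix tab mwords u) = true := by decide +kernel

theorem m2_232 : allRange 12992 56 (fun u => chkFix tab mwords u) = true := by decide +kernel

theorem m2_233 : allRange 13048 56 (fun u => chkFix tab mwords u) = true := by decide +kernel

theorem m2_234 : allRange 13104 56 (fun u => chkFix tab mwords u) = true := by decide +kernel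

theorem m2_235 : allRange 13160 56 (fun u => chkFix tab mwords u) = true := by decide +kernel

theorem m2_236 : allRange 13216 56 (fun u => chkFix tab mwords u) = true := by decide +kernel

theorem m2_237 : allRange 13272 56 (fun u => chkFix tab mwords u) = true := by decide +kernel


end Cfsg.Agent.Helper9.TCData.X1681
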