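import Cfsg.Agent.Lib.Helper9.TCData.X1681.Main

set_option autoImplicit false
set_option maxRecDepth 1000000

namespace Cfsg.Agent.Helper9.TCData.X1681
open Cfsg.Agent.Helper9.TC2

theorem m2_238 : allRange 13328 56 (fun u => chkFix tab mwords u) = true := by decide +kernel

theorem m2_239 : allRange 13384 56 (fun u => chkFix tab mwords u) = true := by decide +kernel

theorem m2_240 : allRange 13440 56 (fun u => chkFix tab mwords u) = true := by decide +kernel

theorem m2_241 : allRange 13496 56 (fun u => chkFix tab mwords u) = true := by decide +kernel

theorem m2_242 : allRange 13552 56 (fun u => chkFix tab mwords u) = true := by decide +kernel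

theorem m2_243 : allRange 13608 56 (fun u => chkFix tab mwords u) = true := by decide +kernel

theorem m2_244 : allRange 13664 56 (fun u => chkFix tab mwords u) = true := by decide +kernel

theorem m2_245 : allRange 13720 56 (fun u => chkFix tab mwords u) = true := by decide +kernel


end Cfsg.Agent.Helper9.TCData.X1681
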