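import Cfsg.Agent.Lib.Helper9.TCData.X1681.Main

set_option autoImplicit false
set_option maxRecDepth 1000000

namespace Cfsg.Agent.Helper9.TCData.X1681
open Cfsg.Agent.Helper9.TC2

theorem m2_246 : allRange 13776 56 (fun u => chkFix tab mwords u) = true := by decide +kernel

theorem m2_247 : allRange 13832 56 (fun u => chkFix tab mwords u) = true := by decide +kernel

theorem m2_248 : allRange 13888 56 (fun u => chkFix tab mwords u) = true := by decide +kernel

theorem m2_249 : allRange 13944 56 (fun u => chkFix tab mwords u) = true := by decide +kernel

theorem m2_250 : allRange 14000 56 (fun u => chkFix tab mwords u) = true := by decide +kernel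

theorem m2_251 : allRange 14056 56 (fun u => chkFix tab mwords u) = true := by decide +kernel

theorem m2_252 : allRange 14112 56 (fun u => chkFix tab mwords u) = true := by decide +kernel

theorem m2_253 : allRange 14168 56 (fun u => chkFix tab mwords u) = true := by decide +kernel


end Cfsg.Agent.Helper9.TCData.X1681
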