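import Cfsg.Agent.Lib.Helper9.TCData.X1681.Main

set_option autoImplicit false
set_option maxRecDepth 1000000

namespace Cfsg.Agent.Helper9.TCData.X1681
open Cfsg.Agent.Helper9.TC2

theorem m2_254 : allRange 14224 56 (fun u => chkFix tab mwords u) = true := by decide +kernel

theorem m2_255 : allRange 14280 56 (fun u => chkFix tab mwords u) = true := by decide +kernel

theorem m2_256 : allRange 14336 56 (fun u => chkFix tab mwords u) = true := by decide +kernel

theorem m2_257 : allRange 14392 56 (fun u => chkFix tab mwords u) = true := by decide +kernel

theorem m2_258 : allRange 14448 56 (fun u => chkFix tab mwords u) = true := by decide +kernel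

theorem m2_259 : allRange 14504 56 (fun u => chkFix tab mwords u) = true := by decide +kernel

theorem m2_260 : allRange 14560 56 (fun u => chkFix tab mwords u) = true := by decide +kernel

theorem m2_261 : allRange 14616 56 (fun u => chkFix tab mwords u) = true := by decide +kernel


end Cfsg.Agent.Helper9.TCData.X1681
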