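import Cfsg.Agent.Lib.Helper9.TCData.X1681.Main

set_option autoImplicit false
set_option maxRecDepth 1000000

namespace Cfsg.Agent.Helper9.TCData.X1681
open Cfsg.Agent.Helper9.TC2

theorem m2_270 : allRange 15120 56 (fun u => chkFix tab mwords u) = true := by decide +kernel

theorem m2_271 : allRange 15176 56 (fun u => chkFix tab mwords u) = true := by decide +kernel

theorem m2_272 : allRange 15232 56 (fun u => chkFix tab mwords u) = true := by decide +kernel

theorem m2_273 : allRange 15288 56 (fun u => chkFix tab mwords u) = true := by decide +kernel

theorem m2_274 : allRange 15344 56 (fun u => chkFix tab mwords u) = true := by decide +kernel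

theorem m2_275 : allRange 15400 56 (fun u => chkFix tab mwords u) = true := by decide +kernel

theorem m2_276 : allRange 15456 56 (fun u => chkFix tab mwords u) = true := by decide +kernel

theorem m2_277 : allRange 15512 56 (fun u => chkFix tab mwords u) = true := by decide +kernel


end Cfsg.Agent.Helper9.TCData.X1681
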