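import Cfsg.Agent.Lib.Helper9.TCData.X1681.Main

set_option autoImplicit false
set_option maxRecDepth 1000000

namespace Cfsg.Agent.Helper9.TCData.X1681
open Cfsg.Agent.Helper9.TC2

theorem e4_1 : allRange 2225 2342 (fun u => chkE tab 4 u) = true := by decide +kernel

theorem e4_2 : allRange 4567 5872 (fun u => chkE tab 4 u) = true := by decide +kernel

theorem e4_3 : allRange 10439 2490 (fun u => chkE tab 4 u) = true := by decide +kernel

theorem e4_4 : allRange 12929 2944 (fun u => chkE tab 4 u) = true := by decide +kernel

theorem e4_5 : allRange 15873 3361 (fun u => chkE tab 4 u) = true := by decide +kernel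

theorem e4_6 : allRange 19234 2767 (fun u => chkE tab 4 u) = true := by decide +kernel

theorem e4_7 : allRange 22001 2764 (fun u => chkE tab 4 u) = true := by decide +kernel

theorem e4_8 : allRange 24765 2858 (fun u => chkE tab 4 u) = true := by decide +kernel


end Cfsg.Agent.Helper9.TCData.X1681
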