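import Cfsg.Agent.Lib.Helper9.TCData.X1681.Main

set_option autoImplicit false
set_option maxRecDepth 1000000

namespace Cfsg.Agent.Helper9.TCData.X1681
open Cfsg.Agent.Helper9.TC2

theorem m2_294 : allRange 16464 56 (fun u => chkFix tab mwords u) = true := by decide +kernel

theorem m2_295 : allRange 16520 56 (fun u => chkFix tab mwords u) = true := by decide +kernel

theorem m2_296 : allRange 16576 56 (fun u => chkFix tab mwords u) = true := by decide +kernel

theorem m2_297 : allRange 16632 56 (fun u => chkFix tab mwords u) = true := by decide +kernel

theorem m2_298 : allRange 16688 56 (fun u => chkFix tab mwords u) = true := by decide +kernel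

theorem m2_299 : allRange 16744 56 (fun u => chkFix tab mwords u) = true := by decide +kernel

theorem m2_300 : allRange 16800 56 (fun u => chkFix tab mwords u) = true := by decide +kernel

theorem m2_301 : allRange 16856 56 (fun u => chkFix tab mwords u) = true := by decide +kernel


end Cfsg.Agent.Helper9.TCData.X1681
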