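import Cfsg.Agent.Lib.Helper9.TCData.X1681.Main

set_option autoImplicit false
set_option maxRecDepth 1000000

namespace Cfsg.Agent.Helper9.TCData.X1681
open Cfsg.Agent.Helper9.TC2

theorem m2_302 : allRange 16912 56 (fun u => chkFix tab mwords u) = true := by decide +kernel

theorem m2_303 : allRange 16968 56 (fun u => chkFix tab mwords u) = true := by decide +kernel

theorem m2_304 : allRange 17024 56 (fun u => chkFix tab mwords u) = true := by decide +kernel

theorem m2_305 : allRange 17080 56 (fun u => chkFix tab mwords u) = true := by decide +kernel

theorem m2_306 : allRange 17136 56 (fun u => chkFix tab mwords u) = true := by decide +kernel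

theorem m2_307 : allRange 17192 56 (fun u => chkFix tab mwords u) = true := by decide +kernel

theorem m2_308 : allRange 17248 56 (fun u => chkFix tab mwords u) = true := by decide +kernel

theorem m2_309 : allRange 17304 56 (fun u => chkFix tab mwords u) = true := by decide +kernel


end Cfsg.Agent.Helper9.TCData.X1681
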