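import Cfsg.Agent.Lib.Helper9.TCData.X1681.Main

set_option autoImplicit false
set_option maxRecDepth 1000000

namespace Cfsg.Agent.Helper9.TCData.X1681
open Cfsg.Agent.Helper9.TC2

theorem m2_310 : allRange 17360 56 (fun u => chkFix tab mwords u) = true := by decide +kernel

theorem m2_311 : allRange 17416 56 (fun u => chkFix tab mwords u) = true := by decide +kernel

theorem m2_312 : allRange 17472 56 (fun u => chkFix tab mwords u) = true := by decide +kernel

theorem m2_313 : allRange 17528 56 (fun u => chkFix tab mwords u) = true := by decide +kernel

theorem m2_314 : allRange 17584 56 (fun u => chkFix tab mwords u) = true := by decide +kernel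

theorem m2_315 : allRange 17640 56 (fun u => chkFix tab mwords u) = true := by decide +kernel

theorem m2_316 : allRange 17696 56 (fun u => chkFix tab mwords u) = true := by decide +kernel

theorem m2_317 : allRange 17752 56 (fun u => chkFix tab mwords u) = true := by decide +kernel


end Cfsg.Agent.Helper9.TCData.X1681
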