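import Cfsg.Agent.Lib.Helper9.TCData.X1681.Main

set_option autoImplicit false
set_option maxRecDepth 1000000

namespace Cfsg.Agent.Helper9.TCData.X1681
open Cfsg.Agent.Helper9.TC2

theorem m2_318 : allRange 17808 56 (fun u => chkFix tab mwords u) = true := by decide +kernel

theorem m2_319 : allRange 17864 56 (fun u => chkFix tab mwords u) = true := by decide +kernel

theorem m2_320 : allRange 17920 56 (fun u => chkFix tab mwords u) = true := by decide +kernel

theorem m2_321 : allRange 17976 56 (fun u => chkFix tab mwords u) = true := by decide +kernel

theorem m2_322 : allRange 18032 56 (fun u => chkFix tab mwords u) = true := by decide +kernel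

theorem m2_323 : allRange 18088 56 (fun u => chkFix tab mwords u) = true := by decide +kernel

theorem m2_324 : allRange 18144 56 (fun u => chkFix tab mwords u) = true := by decide +kernel

theorem m2_325 : allRange 18200 56 (fun u => chkFix tab mwords u) = true := by decide +kernel


end Cfsg.Agent.Helper9.TCData.X1681
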