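import Cfsg.Agent.Lib.Helper9.TCData.X1681.Main

set_option autoImplicit false
set_option maxRecDepth 1000000

namespace Cfsg.Agent.Helper9.TCData.X1681
open Cfsg.Agent.Helper9.TC2

theorem m2_334 : allRange 18704 56 (fun u => chkFix tab mwords u) = true := by decide +kernel

theorem m2_335 : allRange 18760 56 (fun u => chkFix tab mwords u) = true := by decide +kernel

theorem m2_336 : allRange 18816 56 (fun u => chkFix tab mwords u) = true := by decide +kernel

theorem m2_337 : allRange 18872 56 (fun u => chkFix tab mwords u) = true := by decide +kernel

theorem m2_338 : allRange 18928 56 (fun u => chkFix tab mwords u) = true := by decide +kernel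

theorem m2_339 : allRange 18984 56 (fun u => chkFix tab mwords u) = true := by decide +kernel

theorem m2_340 : allRange 19040 56 (fun u => chkFix tab mwords u) = true := by decide +kernel

theorem m2_341 : allRange 19096 56 (fun u => chkFix tab mwords u) = true := by decide +kernel


end Cfsg.Agent.Helper9.TCData.X1681
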