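import Cfsg.Agent.Lib.Helper9.TCData.X1681.Main

set_option autoImplicit false
set_option maxRecDepth 1000000

namespace Cfsg.Agent.Helper9.TCData.X1681
open Cfsg.Agent.Helper9.TC2

theorem e4_9 : allRange 27623 2892 (fun u => chkE tab 4 u) = true := by decide +kernel

theorem e4_10 : allRange 30515 2872 (fun u => chkE tab 4 u) = true := by decide +kernel

theorem e5_0 : allRange 0 3278 (fun u => chkE tab 5 u) = true := by decide +kernel

theorem e5_1 : allRange 3278 4359 (fun u => chkE tab 5 u) = true := by decide +kernel

theorem e5_2 : allRange 7637 4075 (fun u => chkE tab 5 u) = true := by decide +kernel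

theorem e5_3 : allRange 11712 3378 (fun u => chkE tab 5 u) = true := by decide +kernel

theorem e5_4 : allRange 15090 3638 (fun u => chkE tab 5 u) = true := by decide +kernel

theorem e5_5 : allRange 18728 2856 (fun u => chkE tab 5 u) = true := by decide +kernel


end Cfsg.Agent.Helper9.TCData.X1681
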