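import Cfsg.Agent.Lib.Helper9.TCData.X1681.Main

set_option autoImplicit false
set_option maxRecDepth 1000000

namespace Cfsg.Agent.Helper9.TCData.X1681
open Cfsg.Agent.Helper9.TC2

theorem m2_398 : allRange 22288 56 (fun u => chkFix tab mwords u) = true := by decide +kernel

theorem m2_399 : allRange 22344 56 (fun u => chkFix tab mwords u) = true := by decide +kernel

theorem m2_400 : allRange 22400 56 (fun u => chkFix tab mwords u) = true := by decide +kernel

theorem m2_401 : allRange 22456 56 (fun u => chkFix tab mwords u) = true := by decide +kernel

theorem m2_402 : allRange 22512 56 (fun u => chkFix tab mwords u) = true := by decide +kernel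

theorem m2_403 : allRange 22568 56 (fun u => chkFix tab mwords u) = true := by decide +kernel

theorem m2_404 : allRange 22624 56 (fun u => chkFix tab mwords u) = true := by decide +kernel

theorem m2_405 : allRange 22680 56 (fun u => chkFix tab mwords u) = true := by decide +kernel


end Cfsg.Agent.Helper9.TCData.X1681
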