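import Cfsg.Agent.Lib.Helper9.TCData.X1681.Main

set_option autoImplicit false
set_option maxRecDepth 1000000

namespace Cfsg.Agent.Helper9.TCData.X1681
open Cfsg.Agent.Helper9.TC2

theorem m2_406 : allRange 22736 56 (fun u => chkFix tab mwords u) = true := by decide +kernel

theorem m2_407 : allRange 22792 56 (fun u => chkFix tab mwords u) = true := by decide +kernel

theorem m2_408 : allRange 22848 32 (fun u => chkFix tab mwords u) = true := by decide +kernel


end Cfsg.Agent.Helper9.TCData.X1681
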