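import Cfsg.Agent.Lib.Helper9.TCData.X1681.Main

set_option autoImplicit false
set_option maxRecDepth 1000000

namespace Cfsg.Agent.Helper9.TCData.X1681
open Cfsg.Agent.Helper9.TC2

theorem e5_6 : allRange 21584 2849 (fun u => chkE tab 5 u) = true := by decide +kernel

theorem e5_7 : allRange 24433 2792 (fun u => chkE tab 5 u) = true := by decide +kernel

theorem e5_8 : allRange 27225 2767 (fun u => chkE tab 5 u) = true := by decide +kernel

theorem e5_9 : allRange 29992 2833 (fun u => chkE tab 5 u) = true := by decide +kernel

theorem e5_10 : allRange 32825 562 (fun u => chkE tab 5 u) = true := by decide +kernel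

theorem e6_0 : allRange 0 3266 (fun u => chkE tab 6 u) = true := by decide +kernel

theorem e6_1 : allRange 3266 4283 (fun u => chkE tab 6 u) = true := by decide +kernel

theorem e6_2 : allRange 7549 4047 (fun u => chkE tab 6 u) = true := by decide +kernel


end Cfsg.Agent.Helper9.TCData.X1681
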