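import Cfsg.Agent.Lib.Helper9.TCData.X1681.Main

set_option autoImplicit false
set_option maxRecDepth 1000000

namespace Cfsg.Agent.Helper9.TCData.X1681
open Cfsg.Agent.Helper9.TC2

theorem e6_3 : allRange 11596 3375 (fun u => chkE tab 6 u) = true := by decide +kernel

theorem e6_4 : allRange 14971 3546 (fun u => chkE tab 6 u) = true := by decide +kernel

theorem e6_5 : allRange 18517 2829 (fun u => chkE tab 6 u) = true := by decide +kernel

theorem e6_6 : allRange 21346 2774 (fun u => chkE tab 6 u) = true := by decide +kernel

theorem e6_7 : allRange 24120 2815 (fun u => chkE tab 6 u) = true := by decide +kernel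

theorem e6_8 : allRange 26935 2727 (fun u => chkE tab 6 u) = true := by decide +kernel

theorem e6_9 : allRange 29662 2709 (fun u => chkE tab 6 u) = true := by decide +kernel

theorem e6_10 : allRange 32371 1016 (fun u => chkE tab 6 u) = true := by decide +kernel


end Cfsg.Agent.Helper9.TCData.X1681
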