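import Cfsg.Agent.Lib.Helper9.TCData.X1681.S0
import Cfsg.Agent.Lib.Helper9.TCData.X1681.S1
import Cfsg.Agent.Lib.Helper9.TCData.X1681.S2
import Cfsg.Agent.Lib.Helper9.TCData.X1681.S3
import Cfsg.Agent.Lib.Helper9.TCData.X1681.S4
import Cfsg.Agent.Lib.Helper9.TCData.X1681.S5
import Cfsg.Agent.Lib.Helper9.TCData.X1681.S6
import Cfsg.Agent.Lib.Helper9.TCData.X1681.S7
import Cfsg.Agent.Lib.Helper9.TCData.X1681.S8
import Cfsg.Agent.Lib.Helper9.TCData.X1681.S9
import Cfsg.Agent.Lib.Helper9.TCData.X1681.S10
import Cfsg.Agent.Lib.Helper9.TCData.X1681.S11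
import Cfsg.Agent.Lib.Helper9.TCData.X1681.S12
import Cfsg.Agent.Lib.Helper9.TCData.X1681.S13
import Cfsg.Agent.Lib.Helper9.TCData.X1681.S14
import Cfsg.Agent.Lib.Helper9.TCData.X1681.S15
import Cfsg.Agent.Lib.Helper9.TCData.X1681.S16
import Cfsg.Agent.Lib.Helper9.TCData.X1681.S17
import Cfsg.Agent.Lib.Helper9.TCData.X1681.S18
import Cfsg.Agent.Lib.Helper9.TCData.X1681.S19
import Cfsg.Agent.Lib.Helper9.TCData.X1681.S20
import Cfsg.Agent.Lib.Helper9.TCData.X1681.S21
import Cfsg.Agent.Lib.Helper9.TCData.X1681.S22
import Cfsg.Agent.Lib.Helper9.TCData.X1681.S23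
import Cfsg.Agent.Lib.Helper9.TCData.X1681.S24
import Cfsg.Agent.Lib.Helper9.TCData.X1681.S25
import Cfsg.Agent.Lib.Helper9.TCData.X1681.S26
import Cfsg.Agent.Lib.Helper9.TCData.X1681.S27
import Cfsg.Agent.Lib.Helper9.TCData.X1681.S28
import Cfsg.Agent.Lib.Helper9.TCData.X1681.S29
import Cfsg.Agent.Lib.Helper9.TCData.X1681.S30
import Cfsg.Agent.Lib.Helper9.TCData.X1681.S31
import Cfsg.Agent.Lib.Helper9.TCData.X1681.S32
import Cfsg.Agent.Lib.Helper9.TCData.X1681.S33
import Cfsg.Agent.Lib.Helper9.TCData.X1681.S34
import Cfsg.Agent.Lib.Helper9.TCData.X1681.S35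
import Cfsg.Agent.Lib.Helper9.TCData.X1681.S36
import Cfsg.Agent.Lib.Helper9.TCData.X1681.S37
import Cfsg.Agent.Lib.Helper9.TCData.X1681.S38
import Cfsg.Agent.Lib.Helper9.TCData.X1681.S39
import Cfsg.Agent.Lib.Helper9.TCData.X1681.S40
import Cfsg.Agent.Lib.Helper9.TCData.X1681.S41
import Cfsg.Agent.Lib.Helper9.TCData.X1681.S42
import Cfsg.Agent.Lib.Helper9.TCData.X1681.S43
import Cfsg.Agent.Lib.Helper9.TCData.X1681.S44
import Cfsg.Agent.Lib.Helper9.TCData.X1681.S45
import Cfsg.Agent.Lib.Helper9.TCData.X1681.S46
import Cfsg.Agent.Lib.Helper9.TCData.X1681.S47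
import Cfsg.Agent.Lib.Helper9.TCData.X1681.S48
import Cfsg.Agent.Lib.Helper9.TCData.X1681.S49
import Cfsg.Agent.Lib.Helper9.TCData.X1681.S50
import Cfsg.Agent.Lib.Helper9.TCData.X1681.S51
import Cfsg.Agent.Lib.Helper9.TCData.X1681.S52
import Cfsg.Agent.Lib.Helper9.TCData.X1681.S53
import Cfsg.Agent.Lib.Helper9.TCData.X1681.S54
import Cfsg.Agent.Lib.Helper9.TCData.X1681.S55
import Cfsg.Agent.Lib.Helper9.TCData.X1681.S56
import Cfsg.Agent.Lib.Helper9.TCData.X1681.S57
import Cfsg.Agent.Lib.Helper9.TCData.X1681.S58
import Cfsg.Agent.Lib.Helper9.TCData.X1681.S59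
import Cfsg.Agent.Lib.Helper9.TCData.X1681.S60
import Cfsg.Agent.Lib.Helper9.TCData.X1681.S61
import Cfsg.Agent.Lib.Helper9.TCData.X1681.S62
import Cfsg.Agent.Lib.Helper9.TCData.X1681.S63
import Cfsg.Agent.Lib.Helper9.TCData.X1681.S64
import Cfsg.Agent.Lib.Helper9.TCData.X1681.S65
import Cfsg.Agent.Lib.Helper9.TCData.X1681.S66
import Cfsg.Agent.Lib.Helper9.TCData.X1681.S67
import Cfsg.Agent.Lib.Helper9.TCData.X1681.S68
import Cfsg.Agent.Lib.Helper9.TCData.X1681.S69
import Cfsg.Agent.Lib.Helper9.TCData.X1681.S70
import Cfsg.Agent.Lib.Helper9.TCData.X1681.S71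
import Cfsg.Agent.Lib.Helper9.TCData.X1681.S72
import Cfsg.Agent.Lib.Helper9.TCData.X1681.S73
import Cfsg.Agent.Lib.Helper9.TCData.X1681.S74
import Cfsg.Agent.Lib.Helper9.TCData.X1681.S75

set_option autoImplicit false
set_option maxRecDepth 1000000

namespace Cfsg.Agent.Helper9.TCData.X1681
open Cfsg.Agent.Helper9.TC2


theorem hE0 : ∀ u < 33387, chkE tab 0 u = true := by
  have h0 : ∀ u < 0, (fun u => chkE tab 0 u) u = true := range_zero
  have h1 : ∀ u < 2479, (fun u => chkE tab 0 u) u = true := ext_range (a := 0) (len := 2479) h0 e0_0
  have h2 : ∀ u < 5243, (fun u => chkE tab 0 u) u = true := ext_range (a := 2479) (len := 2764) h1 e0_1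
  have h3 : ∀ u < 10166, (fun u => chkE tab 0 u) u = true := ext_range (a := 5243) (len := 4923) h2 e0_2
  have h4 : ∀ u < 12695, (fun u => chkE tab 0 u) u = true := ext_range (a := 10166) (len := 2529) h3 e0_3
  have h5 : ∀ u < 15485, (fun u => chkE tab 0 u) u = true := ext_range (a := 12695) (len := 2790) h4 e0_4
  have h6 : ∀ u < 18746, (fun u => chkE tab 0 u) u = true := ext_range (a := 15485) (len := 3261) h5 e0_5
  have h7 : ∀ u < 21383, (fun u => chkE tab 0 u) u = true := ext_range (a := 18746) (len := 2637) h6 e0_6
  have h8 : ∀ u < 23925, (fun u => chkE tab 0 u) u = true := ext_range (a := 21383) (len := 2542) h7 e0_7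
  have h9 : ∀ u < 26525, (fun u => chkE tab 0 u) u = true := ext_range (a := 23925) (len := 2600) h8 e0_8
  have h10 : ∀ u < 29202, (fun u => chkE tab 0 u) u = true := ext_range (a := 26525) (len := 2677) h9 e0_9
  have h11 : ∀ u < 31862, (fun u => chkE tab 0 u) u = true := ext_range (a := 29202) (len := 2660) h10 e0_10
  have h12 : ∀ u < 33387, (fun u => chkE tab 0 u) u = true := ext_range (a := 31862) (len := 1525) h11 e0_11
  exact h12

theorem hE1 : ∀ u < 33387, chkE tab 1 u = true := by
  have h0 : ∀ u < 0, (fun u => chkE tab 1 u) u = true := range_zero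
  have h1 : ∀ u < 3290, (fun u => chkE tab 1 u) u = true := ext_range (a := 0) (len := 3290) h0 e1_0
  have h2 : ∀ u < 8088, (fun u => chkE tab 1 u) u = true := ext_range (a := 3290) (len := 4798) h1 e1_1
  have h3 : ∀ u < 12089, (fun u => chkE tab 1 u) u = true := ext_range (a := 8088) (len := 4001) h2 e1_2
  have h4 : ∀ u < 15229, (fun u => chkE tab 1 u) u = true := ext_range (a := 12089) (len := 3140) h3 e1_3
  have h5 : ∀ u < 18708, (fun u => chkE tab 1 u) u = true := ext_range (a := 15229) (len := 3479) h4 e1_4
  have h6 : ∀ u < 21377, (fun u => chkE tab 1 u) u = true := ext_range (a := 18708) (len := 2669) h5 e1_5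
  have h7 : ∀ u < 24032, (fun u => chkE tab 1 u) u = true := ext_range (a := 21377) (len := 2655) h6 e1_6
  have h8 : ∀ u < 26746, (fun u => chkE tab 1 u) u = true := ext_range (a := 24032) (len := 2714) h7 e1_7
  have h9 : ∀ u < 29417, (fun u => chkE tab 1 u) u = true := ext_range (a := 26746) (len := 2671) h8 e1_8
  have h10 : ∀ u < 32109, (fun u => chkE tab 1 u) u = true := ext_range (a := 29417) (len := 2692) h9 e1_9
  have h11 : ∀ u < 33387, (fun u => chkE tab 1 u) u = true := ext_range (a := 32109) (len := 1278) h10 e1_10
  exact h11

theorem hE2 : ∀ u < 33387, chkE tab 2 u = true := by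
  have h0 : ∀ u < 0, (fun u => chkE tab 2 u) u = true := range_zero
  have h1 : ∀ u < 2767, (fun u => chkE tab 2 u) u = true := ext_range (a := 0) (len := 2767) h0 e2_0
  have h2 : ∀ u < 6250, (fun u => chkE tab 2 u) u = true := ext_range (a := 2767) (len := 3483) h1 e2_1
  have h3 : ∀ u < 11104, (fun u => chkE tab 2 u) u = true := ext_range (a := 6250) (len := 4854) h2 e2_2
  have h4 : ∀ u < 13763, (fun u => chkE tab 2 u) u = true := ext_range (a := 11104) (len := 2659) h3 e2_3
  have h5 : ∀ u < 16753, (fun u => chkE tab 2 u) u = true := ext_range (a := 13763) (len := 2990) h4 e2_4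
  have h6 : ∀ u < 19916, (fun u => chkE tab 2 u) u = true := ext_range (a := 16753) (len := 3163) h5 e2_5
  have h7 : ∀ u < 22497, (fun u => chkE tab 2 u) u = true := ext_range (a := 19916) (len := 2581) h6 e2_6
  have h8 : ∀ u < 24998, (fun u => chkE tab 2 u) u = true := ext_range (a := 22497) (len := 2501) h7 e2_7
  have h9 : ∀ u < 27578, (fun u => chkE tab 2 u) u = true := ext_range (a := 24998) (len := 2580) h8 e2_8
  have h10 : ∀ u < 30079, (fun u => chkE tab 2 u) u = true := ext_range (a := 27578) (len := 2501) h9 e2_9
  have h11 : ∀ u < 32555, (fun u => chkE tab 2 u) u = true := ext_range (a := 30079) (len := 2476) h10 e2_10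
  have h12 : ∀ u < 33387, (fun u => chkE tab 2 u) u = true := ext_range (a := 32555) (len := 832) h11 e2_11
  exact h12

theorem hE3 : ∀ u < 33387, chkE tab 3 u = true := by
  have h0 : ∀ u < 0, (fun u => chkE tab 3 u) u = true := range_zero
  have h1 : ∀ u < 2447, (fun u => chkE tab 3 u) u = true := ext_range (a := 0) (len := 2447) h0 e3_0
  have h2 : ∀ u < 5199, (fun u => chkE tab 3 u) u = true := ext_range (a := 2447) (len := 2752) h1 e3_1
  have h3 : ∀ u < 10735, (fun u => chkE tab 3 u) u = true := ext_range (a := 5199) (len := 5536) h2 e3_2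
  have h4 : ∀ u < 13336, (fun u => chkE tab 3 u) u = true := ext_range (a := 10735) (len := 2601) h3 e3_3
  have h5 : ∀ u < 16153, (fun u => chkE tab 3 u) u = true := ext_range (a := 13336) (len := 2817) h4 e3_4
  have h6 : ∀ u < 19390, (fun u => chkE tab 3 u) u = true := ext_range (a := 16153) (len := 3237) h5 e3_5
  have h7 : ∀ u < 22062, (fun u => chkE tab 3 u) u = true := ext_range (a := 19390) (len := 2672) h6 e3_6
  have h8 : ∀ u < 24540, (fun u => chkE tab 3 u) u = true := ext_range (a := 22062) (len := 2478) h7 e3_7
  have h9 : ∀ u < 27138, (fun u => chkE tab 3 u) u = true := ext_range (a := 24540) (len := 2598) h8 e3_8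
  have h10 : ∀ u < 29844, (fun u => chkE tab 3 u) u = true := ext_range (a := 27138) (len := 2706) h9 e3_9
  have h11 : ∀ u < 32411, (fun u => chkE tab 3 u) u = true := ext_range (a := 29844) (len := 2567) h10 e3_10
  have h12 : ∀ u < 33387, (fun u => chkE tab 3 u) u = true := ext_range (a := 32411) (len := 976) h11 e3_11
  exact h12

theorem hE4 : ∀ u < 33387, chkE tab 4 u = true := by
  have h0 : ∀ u < 0, (fun u => chkE tab 4 u) u = true := range_zero
  have h1 : ∀ u < 2225, (fun u => chkE tab 4 u) u = true := ext_range (a := 0) (len := 2225) h0 e4_0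
  have h2 : ∀ u < 4567, (fun u => chkE tab 4 u) u = true := ext_range (a := 2225) (len := 2342) h1 e4_1
  have h3 : ∀ u < 10439, (fun u => chkE tab 4 u) u = true := ext_range (a := 4567) (len := 5872) h2 e4_2
  have h4 : ∀ u < 12929, (fun u => chkE tab 4 u) u = true := ext_range (a := 10439) (len := 2490) h3 e4_3
  have h5 : ∀ u < 15873, (fun u => chkE tab 4 u) u = true := ext_range (a := 12929) (len := 2944) h4 e4_4
  have h6 : ∀ u < 19234, (fun u => chkE tab 4 u) u = true := ext_range (a := 15873) (len := 3361) h5 e4_5
  have h7 : ∀ u < 22001, (fun u => chkE tab 4 u) u = true := ext_range (a := 19234) (len := 2767) h6 e4_6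
  have h8 : ∀ u < 24765, (fun u => chkE tab 4 u) u = true := ext_range (a := 22001) (len := 2764) h7 e4_7
  have h9 : ∀ u < 27623, (fun u => chkE tab 4 u) u = true := ext_range (a := 24765) (len := 2858) h8 e4_8
  have h10 : ∀ u < 30515, (fun u => chkE tab 4 u) u = true := ext_range (a := 27623) (len := 2892) h9 e4_9
  have h11 : ∀ u < 33387, (fun u => chkE tab 4 u) u = true := ext_range (a := 30515) (len := 2872) h10 e4_10
  exact h11

theorem hE5 : ∀ u < 33387, chkE tab 5 u = true := by
  have h0 : ∀ u < 0, (fun u => chkE tab 5 u) u = true := range_zero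
  have h1 : ∀ u < 3278, (fun u => chkE tab 5 u) u = true := ext_range (a := 0) (len := 3278) h0 e5_0
  have h2 : ∀ u < 7637, (fun u => chkE tab 5 u) u = true := ext_range (a := 3278) (len := 4359) h1 e5_1
  have h3 : ∀ u < 11712, (fun u => chkE tab 5 u) u = true := ext_range (a := 7637) (len := 4075) h2 e5_2
  have h4 : ∀ u < 15090, (fun u => chkE tab 5 u) u = true := ext_range (a := 11712) (len := 3378) h3 e5_3
  have h5 : ∀ u < 18728, (fun u => chkE tab 5 u) u = true := ext_range (a := 15090) (len := 3638) h4 e5_4
  have h6 : ∀ u < 21584, (fun u => chkE tab 5 u) u = true := ext_range (a := 18728) (len := 2856) h5 e5_5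
  have h7 : ∀ u < 24433, (fun u => chkE tab 5 u) u = true := ext_range (a := 21584) (len := 2849) h6 e5_6
  have h8 : ∀ u < 27225, (fun u => chkE tab 5 u) u = true := ext_range (a := 24433) (len := 2792) h7 e5_7
  have h9 : ∀ u < 29992, (fun u => chkE tab 5 u) u = true := ext_range (a := 27225) (len := 2767) h8 e5_8
  have h10 : ∀ u < 32825, (fun u => chkE tab 5 u) u = true := ext_range (a := 29992) (len := 2833) h9 e5_9
  have h11 : ∀ u < 33387, (fun u => chkE tab 5 u) u = true := ext_range (a := 32825) (len := 562) h10 e5_10
  exact h11

theorem hE6 : ∀ u < 33387, chkE tab 6 u = true := by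
  have h0 : ∀ u < 0, (fun u => chkE tab 6 u) u = true := range_zero
  have h1 : ∀ u < 3266, (fun u => chkE tab 6 u) u = true := ext_range (a := 0) (len := 3266) h0 e6_0
  have h2 : ∀ u < 7549, (fun u => chkE tab 6 u) u = true := ext_range (a := 3266) (len := 4283) h1 e6_1
  have h3 : ∀ u < 11596, (fun u => chkE tab 6 u) u = true := ext_range (a := 7549) (len := 4047) h2 e6_2
  have h4 : ∀ u < 14971, (fun u => chkE tab 6 u) u = true := ext_range (a := 11596) (len := 3375) h3 e6_3
  have h5 : ∀ u < 18517, (fun u => chkE tab 6 u) u = true := ext_range (a := 14971) (len := 3546) h4 e6_4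
  have h6 : ∀ u < 21346, (fun u => chkE tab 6 u) u = true := ext_range (a := 18517) (len := 2829) h5 e6_5
  have h7 : ∀ u < 24120, (fun u => chkE tab 6 u) u = true := ext_range (a := 21346) (len := 2774) h6 e6_6
  have h8 : ∀ u < 26935, (fun u => chkE tab 6 u) u = true := ext_range (a := 24120) (len := 2815) h7 e6_7
  have h9 : ∀ u < 29662, (fun u => chkE tab 6 u) u = true := ext_range (a := 26935) (len := 2727) h8 e6_8
  have h10 : ∀ u < 32371, (fun u => chkE tab 6 u) u = true := ext_range (a := 29662) (len := 2709) h9 e6_9
  have h11 : ∀ u < 33387, (fun u => chkE tab 6 u) u = true := ext_range (a := 32371) (len := 1016) h10 e6_10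
  exact h11

theorem hL : ∀ u < 33387, chkL tab u = true := by
  have h0 : ∀ u < 0, (fun u => chkL tab u) u = true := range_zero
  have h1 : ∀ u < 2748, (fun u => chkL tab u) u = true := ext_range (a := 0) (len := 2748) h0 l_0
  have h2 : ∀ u < 4723, (fun u => chkL tab u) u = true := ext_range (a := 2748) (len := 1975) h1 l_1
  have h3 : ∀ u < 6570, (fun u => chkL tab u) u = true := ext_range (a := 4723) (len := 1847) h2 l_2
  have h4 : ∀ u < 8383, (fun u => chkL tab u) u = true := ext_range (a := 6570) (len := 1813) h3 l_3
  have h5 : ∀ u < 10984, (fun u => chkL tab u) u = true := ext_range (a := 8383) (len := 2601) h4 l_4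
  have h6 : ∀ u < 16703, (fun u => chkL tab u) u = true := ext_range (a := 10984) (len := 5719) h5 l_5
  have h7 : ∀ u < 27795, (fun u => chkL tab u) u = true := ext_range (a := 16703) (len := 11092) h6 l_6
  have h8 : ∀ u < 33387, (fun u => chkL tab u) u = true := ext_range (a := 27795) (len := 5592) h7 l_7
  exact h8

theorem hF : ∀ u < 22880, chkFin tab u = true := by
  have h0 : ∀ u < 0, (fun u => chkFin tab u) u = true := range_zero
  have h1 : ∀ u < 348, (fun u => chkFin tab u) u = true := ext_range (a := 0) (len := 348) h0 f_0
  have h2 : ∀ u < 696, (fun u => chkFin tab u) u = true := ext_range (a := 348) (len := 348) h1 f_1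
  have h3 : ∀ u < 1044, (fun u => chkFin tab u) u = true := ext_range (a := 696) (len := 348) h2 f_2
  have h4 : ∀ u < 1392, (fun u => chkFin tab u) u = true := ext_range (a := 1044) (len := 348) h3 f_3
  have h5 : ∀ u < 1740, (fun u => chkFin tab u) u = true := ext_range (a := 1392) (len := 348) h4 f_4
  have h6 : ∀ u < 2088, (fun u => chkFin tab u) u = true := ext_range (a := 1740) (len := 348) h5 f_5
  have h7 : ∀ u < 2436, (fun u => chkFin tab u) u = true := ext_range (a := 2088) (len := 348) h6 f_6
  have h8 : ∀ u < 2784, (fun u => chkFin tab u) u = true := ext_range (a := 2436) (len := 348) h7 f_7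
  have h9 : ∀ u < 3132, (fun u => chkFin tab u) u = true := ext_range (a := 2784) (len := 348) h8 f_8
  have h10 : ∀ u < 3480, (fun u => chkFin tab u) u = true := ext_range (a := 3132) (len := 348) h9 f_9
  have h11 : ∀ u < 3828, (fun u => chkFin tab u) u = true := ext_range (a := 3480) (len := 348) h10 f_10
  have h12 : ∀ u < 4176, (fun u => chkFin tab u) u = true := ext_range (a := 3828) (len := 348) h11 f_11
  have h13 : ∀ u < 4524, (fun u => chkFin tab u) u = true := ext_range (a := 4176) (len := 348) h12 f_12
  have h14 : ∀ u < 4872, (fun u => chkFin tab u) u = true := ext_range (a := 4524) (len := 348) h13 f_13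
  have h15 : ∀ u < 5220, (fun u => chkFin tab u) u = true := ext_range (a := 4872) (len := 348) h14 f_14
  have h16 : ∀ u < 5568, (fun u => chkFin tab u) u = true := ext_range (a := 5220) (len := 348) h15 f_15
  have h17 : ∀ u < 5916, (fun u => chkFin tab u) u = true := ext_range (a := 5568) (len := 348) h16 f_16
  have h18 : ∀ u < 6264, (fun u => chkFin tab u) u = true := ext_range (a := 5916) (len := 348) h17 f_17
  have h19 : ∀ u < 6612, (fun u => chkFin tab u) u = true := ext_range (a := 6264) (len := 348) h18 f_18
  have h20 : ∀ u < 6960, (fun u => chkFin tab u) u = true := ext_range (a := 6612) (len := 348) h19 f_19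
  have h21 : ∀ u < 7308, (fun u => chkFin tab u) u = true := ext_range (a := 6960) (len := 348) h20 f_20
  have h22 : ∀ u < 7656, (fun u => chkFin tab u) u = true := ext_range (a := 7308) (len := 348) h21 f_21
  have h23 : ∀ u < 8004, (fun u => chkFin tab u) u = true := ext_range (a := 7656) (len := 348) h22 f_22
  have h24 : ∀ u < 8352, (fun u => chkFin tab u) u = true := ext_range (a := 8004) (len := 348) h23 f_23
  have h25 : ∀ u < 8700, (fun u => chkFin tab u) u = true := ext_range (a := 8352) (len := 348) h24 f_24
  have h26 : ∀ u < 9048, (fun u => chkFin tab u) u = true := ext_range (a := 8700) (len := 348) h25 f_25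
  have h27 : ∀ u < 9396, (fun u => chkFin tab u) u = true := ext_range (a := 9048) (len := 348) h26 f_26
  have h28 : ∀ u < 9744, (fun u => chkFin tab u) u = true := ext_range (a := 9396) (len := 348) h27 f_27
  have h29 : ∀ u < 10092, (fun u => chkFin tab u) u = true := ext_range (a := 9744) (len := 348) h28 f_28
  have h30 : ∀ u < 10440, (fun u => chkFin tab u) u = true := ext_range (a := 10092) (len := 348) h29 f_29
  have h31 : ∀ u < 10788, (fun u => chkFin tab u) u = true := ext_range (a := 10440) (len := 348) h30 f_30
  have h32 : ∀ u < 11136, (fun u => chkFin tab u) u = true := ext_range (a := 10788) (len := 348) h31 f_31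
  have h33 : ∀ u < 11484, (fun u => chkFin tab u) u = true := ext_range (a := 11136) (len := 348) h32 f_32
  have h34 : ∀ u < 11832, (fun u => chkFin tab u) u = true := ext_range (a := 11484) (len := 348) h33 f_33
  have h35 : ∀ u < 12180, (fun u => chkFin tab u) u = true := ext_range (a := 11832) (len := 348) h34 f_34
  have h36 : ∀ u < 12528, (fun u => chkFin tab u) u = true := ext_range (a := 12180) (len := 348) h35 f_35
  have h37 : ∀ u < 12876, (fun u => chkFin tab u) u = true := ext_range (a := 12528) (len := 348) h36 f_36
  have h38 : ∀ u < 13224, (fun u => chkFin tab u) u = true := ext_range (a := 12876) (len := 348) h37 f_37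
  have h39 : ∀ u < 13572, (fun u => chkFin tab u) u = true := ext_range (a := 13224) (len := 348) h38 f_38
  have h40 : ∀ u < 13920, (fun u => chkFin tab u) u = true := ext_range (a := 13572) (len := 348) h39 f_39
  have h41 : ∀ u < 14268, (fun u => chkFin tab u) u = true := ext_range (a := 13920) (len := 348) h40 f_40
  have h42 : ∀ u < 14616, (fun u => chkFin tab u) u = true := ext_range (a := 14268) (len := 348) h41 f_41
  have h43 : ∀ u < 14964, (fun u => chkFin tab u) u = true := ext_range (a := 14616) (len := 348) h42 f_42
  have h44 : ∀ u < 15312, (fun u => chkFin tab u) u = true := ext_range (a := 14964) (len := 348) h43 f_43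
  have h45 : ∀ u < 15660, (fun u => chkFin tab u) u = true := ext_range (a := 15312) (len := 348) h44 f_44
  have h46 : ∀ u < 16008, (fun u => chkFin tab u) u = true := ext_range (a := 15660) (len := 348) h45 f_45
  have h47 : ∀ u < 16356, (fun u => chkFin tab u) u = true := ext_range (a := 16008) (len := 348) h46 f_46
  have h48 : ∀ u < 16704, (fun u => chkFin tab u) u = true := ext_range (a := 16356) (len := 348) h47 f_47
  have h49 : ∀ u < 17052, (fun u => chkFin tab u) u = true := ext_range (a := 16704) (len := 348) h48 f_48
  have h50 : ∀ u < 17400, (fun u => chkFin tab u) u = true := ext_range (a := 17052) (len := 348) h49 f_49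
  have h51 : ∀ u < 17748, (fun u => chkFin tab u) u = true := ext_range (a := 17400) (len := 348) h50 f_50
  have h52 : ∀ u < 18096, (fun u => chkFin tab u) u = true := ext_range (a := 17748) (len := 348) h51 f_51
  have h53 : ∀ u < 18444, (fun u => chkFin tab u) u = true := ext_range (a := 18096) (len := 348) h52 f_52
  have h54 : ∀ u < 18792, (fun u => chkFin tab u) u = true := ext_range (a := 18444) (len := 348) h53 f_53
  have h55 : ∀ u < 19140, (fun u => chkFin tab u) u = true := ext_range (a := 18792) (len := 348) h54 f_54
  have h56 : ∀ u < 19488, (fun u => chkFin tab u) u = true := ext_range (a := 19140) (len := 348) h55 f_55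
  have h57 : ∀ u < 19836, (fun u => chkFin tab u) u = true := ext_range (a := 19488) (len := 348) h56 f_56
  have h58 : ∀ u < 20184, (fun u => chkFin tab u) u = true := ext_range (a := 19836) (len := 348) h57 f_57
  have h59 : ∀ u < 20532, (fun u => chkFin tab u) u = true := ext_range (a := 20184) (len := 348) h58 f_58
  have h60 : ∀ u < 20880, (fun u => chkFin tab u) u = true := ext_range (a := 20532) (len := 348) h59 f_59
  have h61 : ∀ u < 21228, (fun u => chkFin tab u) u = true := ext_range (a := 20880) (len := 348) h60 f_60
  have h62 : ∀ u < 21576, (fun u => chkFin tab u) u = true := ext_range (a := 21228) (len := 348) h61 f_61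
  have h63 : ∀ u < 21924, (fun u => chkFin tab u) u = true := ext_range (a := 21576) (len := 348) h62 f_62
  have h64 : ∀ u < 22272, (fun u => chkFin tab u) u = true := ext_range (a := 21924) (len := 348) h63 f_63
  have h65 : ∀ u < 22620, (fun u => chkFin tab u) u = true := ext_range (a := 22272) (len := 348) h64 f_64
  have h66 : ∀ u < 22880, (fun u => chkFin tab u) u = true := ext_range (a := 22620) (len := 260) h65 f_65
  exact h66

theorem hC : ∀ u < 33387, chkCls tab u = true := by
  have h0 : ∀ u < 0, (fun u => chkCls tab u) u = true := range_zero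
  have h1 : ∀ u < 2667, (fun u => chkCls tab u) u = true := ext_range (a := 0) (len := 2667) h0 c_0
  have h2 : ∀ u < 5334, (fun u => chkCls tab u) u = true := ext_range (a := 2667) (len := 2667) h1 c_1
  have h3 : ∀ u < 8001, (fun u => chkCls tab u) u = true := ext_range (a := 5334) (len := 2667) h2 c_2
  have h4 : ∀ u < 10668, (fun u => chkCls tab u) u = true := ext_range (a := 8001) (len := 2667) h3 c_3
  have h5 : ∀ u < 13335, (fun u => chkCls tab u) u = true := ext_range (a := 10668) (len := 2667) h4 c_4
  have h6 : ∀ u < 16002, (fun u => chkCls tab u) u = true := ext_range (a := 13335) (len := 2667) h5 c_5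
  have h7 : ∀ u < 18669, (fun u => chkCls tab u) u = true := ext_range (a := 16002) (len := 2667) h6 c_6
  have h8 : ∀ u < 21336, (fun u => chkCls tab u) u = true := ext_range (a := 18669) (len := 2667) h7 c_7
  have h9 : ∀ u < 24003, (fun u => chkCls tab u) u = true := ext_range (a := 21336) (len := 2667) h8 c_8
  have h10 : ∀ u < 26670, (fun u => chkCls tab u) u = true := ext_range (a := 24003) (len := 2667) h9 c_9
  have h11 : ∀ u < 29337, (fun u => chkCls tab u) u = true := ext_range (a := 26670) (len := 2667) h10 c_10
  have h12 : ∀ u < 32004, (fun u => chkCls tab u) u = true := ext_range (a := 29337) (len := 2667) h11 c_11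
  have h13 : ∀ u < 33387, (fun u => chkCls tab u) u = true := ext_range (a := 32004) (len := 1383) h12 c_12
  exact h13

theorem hM1 : ∀ u < 22880, chkM1 tab u = true := by
  have h0 : ∀ u < 0, (fun u => chkM1 tab u) u = true := range_zero
  have h1 : ∀ u < 899, (fun u => chkM1 tab u) u = true := ext_range (a := 0) (len := 899) h0 m1_0
  have h2 : ∀ u < 1798, (fun u => chkM1 tab u) u = true := ext_range (a := 899) (len := 899) h1 m1_1
  have h3 : ∀ u < 2697, (fun u => chkM1 tab u) u = true := ext_range (a := 1798) (len := 899) h2 m1_2
  have h4 : ∀ u < 3596, (fun u => chkM1 tab u) u = true := ext_range (a := 2697) (len := 899) h3 m1_3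
  have h5 : ∀ u < 4495, (fun u => chkM1 tab u) u = true := ext_range (a := 3596) (len := 899) h4 m1_4
  have h6 : ∀ u < 5394, (fun u => chkM1 tab u) u = true := ext_range (a := 4495) (len := 899) h5 m1_5
  have h7 : ∀ u < 6293, (fun u => chkM1 tab u) u = true := ext_range (a := 5394) (len := 899) h6 m1_6
  have h8 : ∀ u < 7192, (fun u => chkM1 tab u) u = true := ext_range (a := 6293) (len := 899) h7 m1_7
  have h9 : ∀ u < 8091, (fun u => chkM1 tab u) u = true := ext_range (a := 7192) (len := 899) h8 m1_8
  have h10 : ∀ u < 8990, (fun u => chkM1 tab u) u = true := ext_range (a := 8091) (len := 899) h9 m1_9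
  have h11 : ∀ u < 9889, (fun u => chkM1 tab u) u = true := ext_range (a := 8990) (len := 899) h10 m1_10
  have h12 : ∀ u < 10788, (fun u => chkM1 tab u) u = true := ext_range (a := 9889) (len := 899) h11 m1_11
  have h13 : ∀ u < 11687, (fun u => chkM1 tab u) u = true := ext_range (a := 10788) (len := 899) h12 m1_12
  have h14 : ∀ u < 12586, (fun u => chkM1 tab u) u = true := ext_range (a := 11687) (len := 899) h13 m1_13
  have h15 : ∀ u < 13485, (fun u => chkM1 tab u) u = true := ext_range (a := 12586) (len := 899) h14 m1_14
  have h16 : ∀ u < 14384, (fun u => chkM1 tab u) u = true := ext_range (a := 13485) (len := 899) h15 m1_15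
  have h17 : ∀ u < 15283, (fun u => chkM1 tab u) u = true := ext_range (a := 14384) (len := 899) h16 m1_16
  have h18 : ∀ u < 16182, (fun u => chkM1 tab u) u = true := ext_range (a := 15283) (len := 899) h17 m1_17
  have h19 : ∀ u < 17081, (fun u => chkM1 tab u) u = true := ext_range (a := 16182) (len := 899) h18 m1_18
  have h20 : ∀ u < 17980, (fun u => chkM1 tab u) u = true := ext_range (a := 17081) (len := 899) h19 m1_19
  have h21 : ∀ u < 18879, (fun u => chkM1 tab u) u = true := ext_range (a := 17980) (len := 899) h20 m1_20
  have h22 : ∀ u < 19778, (fun u => chkM1 tab u) u = true := ext_range (a := 18879) (len := 899) h21 m1_21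
  have h23 : ∀ u < 20677, (fun u => chkM1 tab u) u = true := ext_range (a := 19778) (len := 899) h22 m1_22
  have h24 : ∀ u < 21576, (fun u => chkM1 tab u) u = true := ext_range (a := 20677) (len := 899) h23 m1_23
  have h25 : ∀ u < 22475, (fun u => chkM1 tab u) u = true := ext_range (a := 21576) (len := 899) h24 m1_24
  have h26 : ∀ u < 22880, (fun u => chkM1 tab u) u = true := ext_range (a := 22475) (len := 405) h25 m1_25
  exact h26

theorem hM2 : ∀ u < 22880, chkFix tab mwords u = true := by
  have h0 : ∀ u < 0, (fun u => chkFix tab mwords u) u = true := range_zero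
  have h1 : ∀ u < 56, (fun u => chkFix tab mwords u) u = true := ext_range (a := 0) (len := 56) h0 m2_0
  have h2 : ∀ u < 112, (fun u => chkFix tab mwords u) u = true := ext_range (a := 56) (len := 56) h1 m2_1
  have h3 : ∀ u < 168, (fun u => chkFix tab mwords u) u = true := ext_range (a := 112) (len := 56) h2 m2_2
  have h4 : ∀ u < 224, (fun u => chkFix tab mwords u) u = true := ext_range (a := 168) (len := 56) h3 m2_3
  have h5 : ∀ u < 280, (fun u => chkFix tab mwords u) u = true := ext_range (a := 224) (len := 56) h4 m2_4
  have h6 : ∀ u < 336, (fun u => chkFix tab mwords u) u = true := ext_range (a := 280) (len := 56) h5 m2_5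
  have h7 : ∀ u < 392, (fun u => chkFix tab mwords u) u = true := ext_range (a := 336) (len := 56) h6 m2_6
  have h8 : ∀ u < 448, (fun u => chkFix tab mwords u) u = true := ext_range (a := 392) (len := 56) h7 m2_7
  have h9 : ∀ u < 504, (fun u => chkFix tab mwords u) u = true := ext_range (a := 448) (len := 56) h8 m2_8
  have h10 : ∀ u < 560, (fun u => chkFix tab mwords u) u = true := ext_range (a := 504) (len := 56) h9 m2_9
  have h11 : ∀ u < 616, (fun u => chkFix tab mwords u) u = true := ext_range (a := 560) (len := 56) h10 m2_10
  have h12 : ∀ u < 672, (fun u => chkFix tab mwords u) u = true := ext_range (a := 616) (len := 56) h11 m2_11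
  have h13 : ∀ u < 728, (fun u => chkFix tab mwords u) u = true := ext_range (a := 672) (len := 56) h12 m2_12
  have h14 : ∀ u < 784, (fun u => chkFix tab mwords u) u = true := ext_range (a := 728) (len := 56) h13 m2_13
  have h15 : ∀ u < 840, (fun u => chkFix tab mwords u) u = true := ext_range (a := 784) (len := 56) h14 m2_14
  have h16 : ∀ u < 896, (fun u => chkFix tab mwords u) u = true := ext_range (a := 840) (len := 56) h15 m2_15
  have h17 : ∀ u < 952, (fun u => chkFix tab mwords u) u = true := ext_range (a := 896) (len := 56) h16 m2_16
  have h18 : ∀ u < 1008, (fun u => chkFix tab mwords u) u = true := ext_range (a := 952) (len := 56) h17 m2_17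
  have h19 : ∀ u < 1064, (fun u => chkFix tab mwords u) u = true := ext_range (a := 1008) (len := 56) h18 m2_18
  have h20 : ∀ u < 1120, (fun u => chkFix tab mwords u) u = true := ext_range (a := 1064) (len := 56) h19 m2_19
  have h21 : ∀ u < 1176, (fun u => chkFix tab mwords u) u = true := ext_range (a := 1120) (len := 56) h20 m2_20
  have h22 : ∀ u < 1232, (fun u => chkFix tab mwords u) u = true := ext_range (a := 1176) (len := 56) h21 m2_21
  have h23 : ∀ u < 1288, (fun u => chkFix tab mwords u) u = true := ext_range (a := 1232) (len := 56) h22 m2_22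
  have h24 : ∀ u < 1344, (fun u => chkFix tab mwords u) u = true := ext_range (a := 1288) (len := 56) h23 m2_23
  have h25 : ∀ u < 1400, (fun u => chkFix tab mwords u) u = true := ext_range (a := 1344) (len := 56) h24 m2_24
  have h26 : ∀ u < 1456, (fun u => chkFix tab mwords u) u = true := ext_range (a := 1400) (len := 56) h25 m2_25
  have h27 : ∀ u < 1512, (fun u => chkFix tab mwords u) u = true := ext_range (a := 1456) (len := 56) h26 m2_26
  have h28 : ∀ u < 1568, (fun u => chkFix tab mwords u) u = true := ext_range (a := 1512) (len := 56) h27 m2_27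
  have h29 : ∀ u < 1624, (fun u => chkFix tab mwords u) u = true := ext_range (a := 1568) (len := 56) h28 m2_28
  have h30 : ∀ u < 1680, (fun u => chkFix tab mwords u) u = true := ext_range (a := 1624) (len := 56) h29 m2_29
  have h31 : ∀ u < 1736, (fun u => chkFix tab mwords u) u = true := ext_range (a := 1680) (len := 56) h30 m2_30
  have h32 : ∀ u < 1792, (fun u => chkFix tab mwords u) u = true := ext_range (a := 1736) (len := 56) h31 m2_31
  have h33 : ∀ u < 1848, (fun u => chkFix tab mwords u) u = true := ext_range (a := 1792) (len := 56) h32 m2_32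
  have h34 : ∀ u < 1904, (fun u => chkFix tab mwords u) u = true := ext_range (a := 1848) (len := 56) h33 m2_33
  have h35 : ∀ u < 1960, (fun u => chkFix tab mwords u) u = true := ext_range (a := 1904) (len := 56) h34 m2_34
  have h36 : ∀ u < 2016, (fun u => chkFix tab mwords u) u = true := ext_range (a := 1960) (len := 56) h35 m2_35
  have h37 : ∀ u < 2072, (fun u => chkFix tab mwords u) u = true := ext_range (a := 2016) (len := 56) h36 m2_36
  have h38 : ∀ u < 2128, (fun u => chkFix tab mwords u) u = true := ext_range (a := 2072) (len := 56) h37 m2_37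
  have h39 : ∀ u < 2184, (fun u => chkFix tab mwords u) u = true := ext_range (a := 2128) (len := 56) h38 m2_38
  have h40 : ∀ u < 2240, (fun u => chkFix tab mwords u) u = true := ext_range (a := 2184) (len := 56) h39 m2_39
  have h41 : ∀ u < 2296, (fun u => chkFix tab mwords u) u = true := ext_range (a := 2240) (len := 56) h40 m2_40
  have h42 : ∀ u < 2352, (fun u => chkFix tab mwords u) u = true := ext_range (a := 2296) (len := 56) h41 m2_41
  have h43 : ∀ u < 2408, (fun u => chkFix tab mwords u) u = true := ext_range (a := 2352) (len := 56) h42 m2_42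
  have h44 : ∀ u < 2464, (fun u => chkFix tab mwords u) u = true := ext_range (a := 2408) (len := 56) h43 m2_43
  have h45 : ∀ u < 2520, (fun u => chkFix tab mwords u) u = true := ext_range (a := 2464) (len := 56) h44 m2_44
  have h46 : ∀ u < 2576, (fun u => chkFix tab mwords u) u = true := ext_range (a := 2520) (len := 56) h45 m2_45
  have h47 : ∀ u < 2632, (fun u => chkFix tab mwords u) u = true := ext_range (a := 2576) (len := 56) h46 m2_46
  have h48 : ∀ u < 2688, (fun u => chkFix tab mwords u) u = true := ext_range (a := 2632) (len := 56) h47 m2_47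
  have h49 : ∀ u < 2744, (fun u => chkFix tab mwords u) u = true := ext_range (a := 2688) (len := 56) h48 m2_48
  have h50 : ∀ u < 2800, (fun u => chkFix tab mwords u) u = true := ext_range (a := 2744) (len := 56) h49 m2_49
  have h51 : ∀ u < 2856, (fun u => chkFix tab mwords u) u = true := ext_range (a := 2800) (len := 56) h50 m2_50
  have h52 : ∀ u < 2912, (fun u => chkFix tab mwords u) u = true := ext_range (a := 2856) (len := 56) h51 m2_51
  have h53 : ∀ u < 2968, (fun u => chkFix tab mwords u) u = true := ext_range (a := 2912) (len := 56) h52 m2_52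
  have h54 : ∀ u < 3024, (fun u => chkFix tab mwords u) u = true := ext_range (a := 2968) (len := 56) h53 m2_53
  have h55 : ∀ u < 3080, (fun u => chkFix tab mwords u) u = true := ext_range (a := 3024) (len := 56) h54 m2_54
  have h56 : ∀ u < 3136, (fun u => chkFix tab mwords u) u = true := ext_range (a := 3080) (len := 56) h55 m2_55
  have h57 : ∀ u < 3192, (fun u => chkFix tab mwords u) u = true := ext_range (a := 3136) (len := 56) h56 m2_56
  have h58 : ∀ u < 3248, (fun u => chkFix tab mwords u) u = true := ext_range (a := 3192) (len := 56) h57 m2_57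
  have h59 : ∀ u < 3304, (fun u => chkFix tab mwords u) u = true := ext_range (a := 3248) (len := 56) h58 m2_58
  have h60 : ∀ u < 3360, (fun u => chkFix tab mwords u) u = true := ext_range (a := 3304) (len := 56) h59 m2_59
  have h61 : ∀ u < 3416, (fun u => chkFix tab mwords u) u = true := ext_range (a := 3360) (len := 56) h60 m2_60
  have h62 : ∀ u < 3472, (fun u => chkFix tab mwords u) u = true := ext_range (a := 3416) (len := 56) h61 m2_61
  have h63 : ∀ u < 3528, (fun u => chkFix tab mwords u) u = true := ext_range (a := 3472) (len := 56) h62 m2_62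
  have h64 : ∀ u < 3584, (fun u => chkFix tab mwords u) u = true := ext_range (a := 3528) (len := 56) h63 m2_63
  have h65 : ∀ u < 3640, (fun u => chkFix tab mwords u) u = true := ext_range (a := 3584) (len := 56) h64 m2_64
  have h66 : ∀ u < 3696, (fun u => chkFix tab mwords u) u = true := ext_range (a := 3640) (len := 56) h65 m2_65
  have h67 : ∀ u < 3752, (fun u => chkFix tab mwords u) u = true := ext_range (a := 3696) (len := 56) h66 m2_66
  have h68 : ∀ u < 3808, (fun u => chkFix tab mwords u) u = true := ext_range (a := 3752) (len := 56) h67 m2_67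
  have h69 : ∀ u < 3864, (fun u => chkFix tab mwords u) u = true := ext_range (a := 3808) (len := 56) h68 m2_68
  have h70 : ∀ u < 3920, (fun u => chkFix tab mwords u) u = true := ext_range (a := 3864) (len := 56) h69 m2_69
  have h71 : ∀ u < 3976, (fun u => chkFix tab mwords u) u = true := ext_range (a := 3920) (len := 56) h70 m2_70
  have h72 : ∀ u < 4032, (fun u => chkFix tab mwords u) u = true := ext_range (a := 3976) (len := 56) h71 m2_71
  have h73 : ∀ u < 4088, (fun u => chkFix tab mwords u) u = true := ext_range (a := 4032) (len := 56) h72 m2_72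
  have h74 : ∀ u < 4144, (fun u => chkFix tab mwords u) u = true := ext_range (a := 4088) (len := 56) h73 m2_73
  have h75 : ∀ u < 4200, (fun u => chkFix tab mwords u) u = true := ext_range (a := 4144) (len := 56) h74 m2_74
  have h76 : ∀ u < 4256, (fun u => chkFix tab mwords u) u = true := ext_range (a := 4200) (len := 56) h75 m2_75
  have h77 : ∀ u < 4312, (fun u => chkFix tab mwords u) u = true := ext_range (a := 4256) (len := 56) h76 m2_76
  have h78 : ∀ u < 4368, (fun u => chkFix tab mwords u) u = true := ext_range (a := 4312) (len := 56) h77 m2_77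
  have h79 : ∀ u < 4424, (fun u => chkFix tab mwords u) u = true := ext_range (a := 4368) (len := 56) h78 m2_78
  have h80 : ∀ u < 4480, (fun u => chkFix tab mwords u) u = true := ext_range (a := 4424) (len := 56) h79 m2_79
  have h81 : ∀ u < 4536, (fun u => chkFix tab mwords u) u = true := ext_range (a := 4480) (len := 56) h80 m2_80
  have h82 : ∀ u < 4592, (fun u => chkFix tab mwords u) u = true := ext_range (a := 4536) (len := 56) h81 m2_81
  have h83 : ∀ u < 4648, (fun u => chkFix tab mwords u) u = true := ext_range (a := 4592) (len := 56) h82 m2_82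
  have h84 : ∀ u < 4704, (fun u => chkFix tab mwords u) u = true := ext_range (a := 4648) (len := 56) h83 m2_83
  have h85 : ∀ u < 4760, (fun u => chkFix tab mwords u) u = true := ext_range (a := 4704) (len := 56) h84 m2_84
  have h86 : ∀ u < 4816, (fun u => chkFix tab mwords u) u = true := ext_range (a := 4760) (len := 56) h85 m2_85
  have h87 : ∀ u < 4872, (fun u => chkFix tab mwords u) u = true := ext_range (a := 4816) (len := 56) h86 m2_86
  have h88 : ∀ u < 4928, (fun u => chkFix tab mwords u) u = true := ext_range (a := 4872) (len := 56) h87 m2_87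
  have h89 : ∀ u < 4984, (fun u => chkFix tab mwords u) u = true := ext_range (a := 4928) (len := 56) h88 m2_88
  have h90 : ∀ u < 5040, (fun u => chkFix tab mwords u) u = true := ext_range (a := 4984) (len := 56) h89 m2_89
  have h91 : ∀ u < 5096, (fun u => chkFix tab mwords u) u = true := ext_range (a := 5040) (len := 56) h90 m2_90
  have h92 : ∀ u < 5152, (fun u => chkFix tab mwords u) u = true := ext_range (a := 5096) (len := 56) h91 m2_91
  have h93 : ∀ u < 5208, (fun u => chkFix tab mwords u) u = true := ext_range (a := 5152) (len := 56) h92 m2_92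
  have h94 : ∀ u < 5264, (fun u => chkFix tab mwords u) u = true := ext_range (a := 5208) (len := 56) h93 m2_93
  have h95 : ∀ u < 5320, (fun u => chkFix tab mwords u) u = true := ext_range (a := 5264) (len := 56) h94 m2_94
  have h96 : ∀ u < 5376, (fun u => chkFix tab mwords u) u = true := ext_range (a := 5320) (len := 56) h95 m2_95
  have h97 : ∀ u < 5432, (fun u => chkFix tab mwords u) u = true := ext_range (a := 5376) (len := 56) h96 m2_96
  have h98 : ∀ u < 5488, (fun u => chkFix tab mwords u) u = true := ext_range (a := 5432) (len := 56) h97 m2_97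
  have h99 : ∀ u < 5544, (fun u => chkFix tab mwords u) u = true := ext_range (a := 5488) (len := 56) h98 m2_98
  have h100 : ∀ u < 5600, (fun u => chkFix tab mwords u) u = true := ext_range (a := 5544) (len := 56) h99 m2_99
  have h101 : ∀ u < 5656, (fun u => chkFix tab mwords u) u = true := ext_range (a := 5600) (len := 56) h100 m2_100
  have h102 : ∀ u < 5712, (fun u => chkFix tab mwords u) u = true := ext_range (a := 5656) (len := 56) h101 m2_101
  have h103 : ∀ u < 5768, (fun u => chkFix tab mwords u) u = true := ext_range (a := 5712) (len := 56) h102 m2_102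
  have h104 : ∀ u < 5824, (fun u => chkFix tab mwords u) u = true := ext_range (a := 5768) (len := 56) h103 m2_103
  have h105 : ∀ u < 5880, (fun u => chkFix tab mwords u) u = true := ext_range (a := 5824) (len := 56) h104 m2_104
  have h106 : ∀ u < 5936, (fun u => chkFix tab mwords u) u = true := ext_range (a := 5880) (len := 56) h105 m2_105
  have h107 : ∀ u < 5992, (fun u => chkFix tab mwords u) u = true := ext_range (a := 5936) (len := 56) h106 m2_106
  have h108 : ∀ u < 6048, (fun u => chkFix tab mwords u) u = true := ext_range (a := 5992) (len := 56) h107 m2_107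
  have h109 : ∀ u < 6104, (fun u => chkFix tab mwords u) u = true := ext_range (a := 6048) (len := 56) h108 m2_108
  have h110 : ∀ u < 6160, (fun u => chkFix tab mwords u) u = true := ext_range (a := 6104) (len := 56) h109 m2_109
  have h111 : ∀ u < 6216, (fun u => chkFix tab mwords u) u = true := ext_range (a := 6160) (len := 56) h110 m2_110
  have h112 : ∀ u < 6272, (fun u => chkFix tab mwords u) u = true := ext_range (a := 6216) (len := 56) h111 m2_111
  have h113 : ∀ u < 6328, (fun u => chkFix tab mwords u) u = true := ext_range (a := 6272) (len := 56) h112 m2_112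
  have h114 : ∀ u < 6384, (fun u => chkFix tab mwords u) u = true := ext_range (a := 6328) (len := 56) h113 m2_113
  have h115 : ∀ u < 6440, (fun u => chkFix tab mwords u) u = true := ext_range (a := 6384) (len := 56) h114 m2_114
  have h116 : ∀ u < 6496, (fun u => chkFix tab mwords u) u = true := ext_range (a := 6440) (len := 56) h115 m2_115
  have h117 : ∀ u < 6552, (fun u => chkFix tab mwords u) u = true := ext_range (a := 6496) (len := 56) h116 m2_116
  have h118 : ∀ u < 6608, (fun u => chkFix tab mwords u) u = true := ext_range (a := 6552) (len := 56) h117 m2_117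
  have h119 : ∀ u < 6664, (fun u => chkFix tab mwords u) u = true := ext_range (a := 6608) (len := 56) h118 m2_118
  have h120 : ∀ u < 6720, (fun u => chkFix tab mwords u) u = true := ext_range (a := 6664) (len := 56) h119 m2_119
  have h121 : ∀ u < 6776, (fun u => chkFix tab mwords u) u = true := ext_range (a := 6720) (len := 56) h120 m2_120
  have h122 : ∀ u < 6832, (fun u => chkFix tab mwords u) u = true := ext_range (a := 6776) (len := 56) h121 m2_121
  have h123 : ∀ u < 6888, (fun u => chkFix tab mwords u) u = true := ext_range (a := 6832) (len := 56) h122 m2_122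
  have h124 : ∀ u < 6944, (fun u => chkFix tab mwords u) u = true := ext_range (a := 6888) (len := 56) h123 m2_123
  have h125 : ∀ u < 7000, (fun u => chkFix tab mwords u) u = true := ext_range (a := 6944) (len := 56) h124 m2_124
  have h126 : ∀ u < 7056, (fun u => chkFix tab mwords u) u = true := ext_range (a := 7000) (len := 56) h125 m2_125
  have h127 : ∀ u < 7112, (fun u => chkFix tab mwords u) u = true := ext_range (a := 7056) (len := 56) h126 m2_126
  have h128 : ∀ u < 7168, (fun u => chkFix tab mwords u) u = true := ext_range (a := 7112) (len := 56) h127 m2_127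
  have h129 : ∀ u < 7224, (fun u => chkFix tab mwords u) u = true := ext_range (a := 7168) (len := 56) h128 m2_128
  have h130 : ∀ u < 7280, (fun u => chkFix tab mwords u) u = true := ext_range (a := 7224) (len := 56) h129 m2_129
  have h131 : ∀ u < 7336, (fun u => chkFix tab mwords u) u = true := ext_range (a := 7280) (len := 56) h130 m2_130
  have h132 : ∀ u < 7392, (fun u => chkFix tab mwords u) u = true := ext_range (a := 7336) (len := 56) h131 m2_131
  have h133 : ∀ u < 7448, (fun u => chkFix tab mwords u) u = true := ext_range (a := 7392) (len := 56) h132 m2_132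
  have h134 : ∀ u < 7504, (fun u => chkFix tab mwords u) u = true := ext_range (a := 7448) (len := 56) h133 m2_133
  have h135 : ∀ u < 7560, (fun u => chkFix tab mwords u) u = true := ext_range (a := 7504) (len := 56) h134 m2_134
  have h136 : ∀ u < 7616, (fun u => chkFix tab mwords u) u = true := ext_range (a := 7560) (len := 56) h135 m2_135
  have h137 : ∀ u < 7672, (fun u => chkFix tab mwords u) u = true := ext_range (a := 7616) (len := 56) h136 m2_136
  have h138 : ∀ u < 7728, (fun u => chkFix tab mwords u) u = true := ext_range (a := 7672) (len := 56) h137 m2_137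
  have h139 : ∀ u < 7784, (fun u => chkFix tab mwords u) u = true := ext_range (a := 7728) (len := 56) h138 m2_138
  have h140 : ∀ u < 7840, (fun u => chkFix tab mwords u) u = true := ext_range (a := 7784) (len := 56) h139 m2_139
  have h141 : ∀ u < 7896, (fun u => chkFix tab mwords u) u = true := ext_range (a := 7840) (len := 56) h140 m2_140
  have h142 : ∀ u < 7952, (fun u => chkFix tab mwords u) u = true := ext_range (a := 7896) (len := 56) h141 m2_141
  have h143 : ∀ u < 8008, (fun u => chkFix tab mwords u) u = true := ext_range (a := 7952) (len := 56) h142 m2_142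
  have h144 : ∀ u < 8064, (fun u => chkFix tab mwords u) u = true := ext_range (a := 8008) (len := 56) h143 m2_143
  have h145 : ∀ u < 8120, (fun u => chkFix tab mwords u) u = true := ext_range (a := 8064) (len := 56) h144 m2_144
  have h146 : ∀ u < 8176, (fun u => chkFix tab mwords u) u = true := ext_range (a := 8120) (len := 56) h145 m2_145
  have h147 : ∀ u < 8232, (fun u => chkFix tab mwords u) u = true := ext_range (a := 8176) (len := 56) h146 m2_146
  have h148 : ∀ u < 8288, (fun u => chkFix tab mwords u) u = true := ext_range (a := 8232) (len := 56) h147 m2_147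
  have h149 : ∀ u < 8344, (fun u => chkFix tab mwords u) u = true := ext_range (a := 8288) (len := 56) h148 m2_148
  have h150 : ∀ u < 8400, (fun u => chkFix tab mwords u) u = true := ext_range (a := 8344) (len := 56) h149 m2_149
  have h151 : ∀ u < 8456, (fun u => chkFix tab mwords u) u = true := ext_range (a := 8400) (len := 56) h150 m2_150
  have h152 : ∀ u < 8512, (fun u => chkFix tab mwords u) u = true := ext_range (a := 8456) (len := 56) h151 m2_151
  have h153 : ∀ u < 8568, (fun u => chkFix tab mwords u) u = true := ext_range (a := 8512) (len := 56) h152 m2_152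
  have h154 : ∀ u < 8624, (fun u => chkFix tab mwords u) u = true := ext_range (a := 8568) (len := 56) h153 m2_153
  have h155 : ∀ u < 8680, (fun u => chkFix tab mwords u) u = true := ext_range (a := 8624) (len := 56) h154 m2_154
  have h156 : ∀ u < 8736, (fun u => chkFix tab mwords u) u = true := ext_range (a := 8680) (len := 56) h155 m2_155
  have h157 : ∀ u < 8792, (fun u => chkFix tab mwords u) u = true := ext_range (a := 8736) (len := 56) h156 m2_156
  have h158 : ∀ u < 8848, (fun u => chkFix tab mwords u) u = true := ext_range (a := 8792) (len := 56) h157 m2_157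
  have h159 : ∀ u < 8904, (fun u => chkFix tab mwords u) u = true := ext_range (a := 8848) (len := 56) h158 m2_158
  have h160 : ∀ u < 8960, (fun u => chkFix tab mwords u) u = true := ext_range (a := 8904) (len := 56) h159 m2_159
  have h161 : ∀ u < 9016, (fun u => chkFix tab mwords u) u = true := ext_range (a := 8960) (len := 56) h160 m2_160
  have h162 : ∀ u < 9072, (fun u => chkFix tab mwords u) u = true := ext_range (a := 9016) (len := 56) h161 m2_161
  have h163 : ∀ u < 9128, (fun u => chkFix tab mwords u) u = true := ext_range (a := 9072) (len := 56) h162 m2_162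
  have h164 : ∀ u < 9184, (fun u => chkFix tab mwords u) u = true := ext_range (a := 9128) (len := 56) h163 m2_163
  have h165 : ∀ u < 9240, (fun u => chkFix tab mwords u) u = true := ext_range (a := 9184) (len := 56) h164 m2_164
  have h166 : ∀ u < 9296, (fun u => chkFix tab mwords u) u = true := ext_range (a := 9240) (len := 56) h165 m2_165
  have h167 : ∀ u < 9352, (fun u => chkFix tab mwords u) u = true := ext_range (a := 9296) (len := 56) h166 m2_166
  have h168 : ∀ u < 9408, (fun u => chkFix tab mwords u) u = true := ext_range (a := 9352) (len := 56) h167 m2_167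
  have h169 : ∀ u < 9464, (fun u => chkFix tab mwords u) u = true := ext_range (a := 9408) (len := 56) h168 m2_168
  have h170 : ∀ u < 9520, (fun u => chkFix tab mwords u) u = true := ext_range (a := 9464) (len := 56) h169 m2_169
  have h171 : ∀ u < 9576, (fun u => chkFix tab mwords u) u = true := ext_range (a := 9520) (len := 56) h170 m2_170
  have h172 : ∀ u < 9632, (fun u => chkFix tab mwords u) u = true := ext_range (a := 9576) (len := 56) h171 m2_171
  have h173 : ∀ u < 9688, (fun u => chkFix tab mwords u) u = true := ext_range (a := 9632) (len := 56) h172 m2_172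
  have h174 : ∀ u < 9744, (fun u => chkFix tab mwords u) u = true := ext_range (a := 9688) (len := 56) h173 m2_173
  have h175 : ∀ u < 9800, (fun u => chkFix tab mwords u) u = true := ext_range (a := 9744) (len := 56) h174 m2_174
  have h176 : ∀ u < 9856, (fun u => chkFix tab mwords u) u = true := ext_range (a := 9800) (len := 56) h175 m2_175
  have h177 : ∀ u < 9912, (fun u => chkFix tab mwords u) u = true := ext_range (a := 9856) (len := 56) h176 m2_176
  have h178 : ∀ u < 9968, (fun u => chkFix tab mwords u) u = true := ext_range (a := 9912) (len := 56) h177 m2_177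
  have h179 : ∀ u < 10024, (fun u => chkFix tab mwords u) u = true := ext_range (a := 9968) (len := 56) h178 m2_178
  have h180 : ∀ u < 10080, (fun u => chkFix tab mwords u) u = true := ext_range (a := 10024) (len := 56) h179 m2_179
  have h181 : ∀ u < 10136, (fun u => chkFix tab mwords u) u = true := ext_range (a := 10080) (len := 56) h180 m2_180
  have h182 : ∀ u < 10192, (fun u => chkFix tab mwords u) u = true := ext_range (a := 10136) (len := 56) h181 m2_181
  have h183 : ∀ u < 10248, (fun u => chkFix tab mwords u) u = true := ext_range (a := 10192) (len := 56) h182 m2_182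
  have h184 : ∀ u < 10304, (fun u => chkFix tab mwords u) u = true := ext_range (a := 10248) (len := 56) h183 m2_183
  have h185 : ∀ u < 10360, (fun u => chkFix tab mwords u) u = true := ext_range (a := 10304) (len := 56) h184 m2_184
  have h186 : ∀ u < 10416, (fun u => chkFix tab mwords u) u = true := ext_range (a := 10360) (len := 56) h185 m2_185
  have h187 : ∀ u < 10472, (fun u => chkFix tab mwords u) u = true := ext_range (a := 10416) (len := 56) h186 m2_186
  have h188 : ∀ u < 10528, (fun u => chkFix tab mwords u) u = true := ext_range (a := 10472) (len := 56) h187 m2_187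
  have h189 : ∀ u < 10584, (fun u => chkFix tab mwords u) u = true := ext_range (a := 10528) (len := 56) h188 m2_188
  have h190 : ∀ u < 10640, (fun u => chkFix tab mwords u) u = true := ext_range (a := 10584) (len := 56) h189 m2_189
  have h191 : ∀ u < 10696, (fun u => chkFix tab mwords u) u = true := ext_range (a := 10640) (len := 56) h190 m2_190
  have h192 : ∀ u < 10752, (fun u => chkFix tab mwords u) u = true := ext_range (a := 10696) (len := 56) h191 m2_191
  have h193 : ∀ u < 10808, (fun u => chkFix tab mwords u) u = true := ext_range (a := 10752) (len := 56) h192 m2_192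
  have h194 : ∀ u < 10864, (fun u => chkFix tab mwords u) u = true := ext_range (a := 10808) (len := 56) h193 m2_193
  have h195 : ∀ u < 10920, (fun u => chkFix tab mwords u) u = true := ext_range (a := 10864) (len := 56) h194 m2_194
  have h196 : ∀ u < 10976, (fun u => chkFix tab mwords u) u = true := ext_range (a := 10920) (len := 56) h195 m2_195
  have h197 : ∀ u < 11032, (fun u => chkFix tab mwords u) u = true := ext_range (a := 10976) (len := 56) h196 m2_196
  have h198 : ∀ u < 11088, (fun u => chkFix tab mwords u) u = true := ext_range (a := 11032) (len := 56) h197 m2_197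
  have h199 : ∀ u < 11144, (fun u => chkFix tab mwords u) u = true := ext_range (a := 11088) (len := 56) h198 m2_198
  have h200 : ∀ u < 11200, (fun u => chkFix tab mwords u) u = true := ext_range (a := 11144) (len := 56) h199 m2_199
  have h201 : ∀ u < 11256, (fun u => chkFix tab mwords u) u = true := ext_range (a := 11200) (len := 56) h200 m2_200
  have h202 : ∀ u < 11312, (fun u => chkFix tab mwords u) u = true := ext_range (a := 11256) (len := 56) h201 m2_201
  have h203 : ∀ u < 11368, (fun u => chkFix tab mwords u) u = true := ext_range (a := 11312) (len := 56) h202 m2_202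
  have h204 : ∀ u < 11424, (fun u => chkFix tab mwords u) u = true := ext_range (a := 11368) (len := 56) h203 m2_203
  have h205 : ∀ u < 11480, (fun u => chkFix tab mwords u) u = true := ext_range (a := 11424) (len := 56) h204 m2_204
  have h206 : ∀ u < 11536, (fun u => chkFix tab mwords u) u = true := ext_range (a := 11480) (len := 56) h205 m2_205
  have h207 : ∀ u < 11592, (fun u => chkFix tab mwords u) u = true := ext_range (a := 11536) (len := 56) h206 m2_206
  have h208 : ∀ u < 11648, (fun u => chkFix tab mwords u) u = true := ext_range (a := 11592) (len := 56) h207 m2_207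
  have h209 : ∀ u < 11704, (fun u => chkFix tab mwords u) u = true := ext_range (a := 11648) (len := 56) h208 m2_208
  have h210 : ∀ u < 11760, (fun u => chkFix tab mwords u) u = true := ext_range (a := 11704) (len := 56) h209 m2_209
  have h211 : ∀ u < 11816, (fun u => chkFix tab mwords u) u = true := ext_range (a := 11760) (len := 56) h210 m2_210
  have h212 : ∀ u < 11872, (fun u => chkFix tab mwords u) u = true := ext_range (a := 11816) (len := 56) h211 m2_211
  have h213 : ∀ u < 11928, (fun u => chkFix tab mwords u) u = true := ext_range (a := 11872) (len := 56) h212 m2_212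
  have h214 : ∀ u < 11984, (fun u => chkFix tab mwords u) u = true := ext_range (a := 11928) (len := 56) h213 m2_213
  have h215 : ∀ u < 12040, (fun u => chkFix tab mwords u) u = true := ext_range (a := 11984) (len := 56) h214 m2_214
  have h216 : ∀ u < 12096, (fun u => chkFix tab mwords u) u = true := ext_range (a := 12040) (len := 56) h215 m2_215
  have h217 : ∀ u < 12152, (fun u => chkFix tab mwords u) u = true := ext_range (a := 12096) (len := 56) h216 m2_216
  have h218 : ∀ u < 12208, (fun u => chkFix tab mwords u) u = true := ext_range (a := 12152) (len := 56) h217 m2_217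
  have h219 : ∀ u < 12264, (fun u => chkFix tab mwords u) u = true := ext_range (a := 12208) (len := 56) h218 m2_218
  have h220 : ∀ u < 12320, (fun u => chkFix tab mwords u) u = true := ext_range (a := 12264) (len := 56) h219 m2_219
  have h221 : ∀ u < 12376, (fun u => chkFix tab mwords u) u = true := ext_range (a := 12320) (len := 56) h220 m2_220
  have h222 : ∀ u < 12432, (fun u => chkFix tab mwords u) u = true := ext_range (a := 12376) (len := 56) h221 m2_221
  have h223 : ∀ u < 12488, (fun u => chkFix tab mwords u) u = true := ext_range (a := 12432) (len := 56) h222 m2_222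
  have h224 : ∀ u < 12544, (fun u => chkFix tab mwords u) u = true := ext_range (a := 12488) (len := 56) h223 m2_223
  have h225 : ∀ u < 12600, (fun u => chkFix tab mwords u) u = true := ext_range (a := 12544) (len := 56) h224 m2_224
  have h226 : ∀ u < 12656, (fun u => chkFix tab mwords u) u = true := ext_range (a := 12600) (len := 56) h225 m2_225
  have h227 : ∀ u < 12712, (fun u => chkFix tab mwords u) u = true := ext_range (a := 12656) (len := 56) h226 m2_226
  have h228 : ∀ u < 12768, (fun u => chkFix tab mwords u) u = true := ext_range (a := 12712) (len := 56) h227 m2_227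
  have h229 : ∀ u < 12824, (fun u => chkFix tab mwords u) u = true := ext_range (a := 12768) (len := 56) h228 m2_228
  have h230 : ∀ u < 12880, (fun u => chkFix tab mwords u) u = true := ext_range (a := 12824) (len := 56) h229 m2_229
  have h231 : ∀ u < 12936, (fun u => chkFix tab mwords u) u = true := ext_range (a := 12880) (len := 56) h230 m2_230
  have h232 : ∀ u < 12992, (fun u => chkFix tab mwords u) u = true := ext_range (a := 12936) (len := 56) h231 m2_231
  have h233 : ∀ u < 13048, (fun u => chkFix tab mwords u) u = true := ext_range (a := 12992) (len := 56) h232 m2_232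
  have h234 : ∀ u < 13104, (fun u => chkFix tab mwords u) u = true := ext_range (a := 13048) (len := 56) h233 m2_233
  have h235 : ∀ u < 13160, (fun u => chkFix tab mwords u) u = true := ext_range (a := 13104) (len := 56) h234 m2_234
  have h236 : ∀ u < 13216, (fun u => chkFix tab mwords u) u = true := ext_range (a := 13160) (len := 56) h235 m2_235
  have h237 : ∀ u < 13272, (fun u => chkFix tab mwords u) u = true := ext_range (a := 13216) (len := 56) h236 m2_236
  have h238 : ∀ u < 13328, (fun u => chkFix tab mwords u) u = true := ext_range (a := 13272) (len := 56) h237 m2_237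
  have h239 : ∀ u < 13384, (fun u => chkFix tab mwords u) u = true := ext_range (a := 13328) (len := 56) h238 m2_238
  have h240 : ∀ u < 13440, (fun u => chkFix tab mwords u) u = true := ext_range (a := 13384) (len := 56) h239 m2_239
  have h241 : ∀ u < 13496, (fun u => chkFix tab mwords u) u = true := ext_range (a := 13440) (len := 56) h240 m2_240
  have h242 : ∀ u < 13552, (fun u => chkFix tab mwords u) u = true := ext_range (a := 13496) (len := 56) h241 m2_241
  have h243 : ∀ u < 13608, (fun u => chkFix tab mwords u) u = true := ext_range (a := 13552) (len := 56) h242 m2_242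
  have h244 : ∀ u < 13664, (fun u => chkFix tab mwords u) u = true := ext_range (a := 13608) (len := 56) h243 m2_243
  have h245 : ∀ u < 13720, (fun u => chkFix tab mwords u) u = true := ext_range (a := 13664) (len := 56) h244 m2_244
  have h246 : ∀ u < 13776, (fun u => chkFix tab mwords u) u = true := ext_range (a := 13720) (len := 56) h245 m2_245
  have h247 : ∀ u < 13832, (fun u => chkFix tab mwords u) u = true := ext_range (a := 13776) (len := 56) h246 m2_246
  have h248 : ∀ u < 13888, (fun u => chkFix tab mwords u) u = true := ext_range (a := 13832) (len := 56) h247 m2_247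
  have h249 : ∀ u < 13944, (fun u => chkFix tab mwords u) u = true := ext_range (a := 13888) (len := 56) h248 m2_248
  have h250 : ∀ u < 14000, (fun u => chkFix tab mwords u) u = true := ext_range (a := 13944) (len := 56) h249 m2_249
  have h251 : ∀ u < 14056, (fun u => chkFix tab mwords u) u = true := ext_range (a := 14000) (len := 56) h250 m2_250
  have h252 : ∀ u < 14112, (fun u => chkFix tab mwords u) u = true := ext_range (a := 14056) (len := 56) h251 m2_251
  have h253 : ∀ u < 14168, (fun u => chkFix tab mwords u) u = true := ext_range (a := 14112) (len := 56) h252 m2_252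
  have h254 : ∀ u < 14224, (fun u => chkFix tab mwords u) u = true := ext_range (a := 14168) (len := 56) h253 m2_253
  have h255 : ∀ u < 14280, (fun u => chkFix tab mwords u) u = true := ext_range (a := 14224) (len := 56) h254 m2_254
  have h256 : ∀ u < 14336, (fun u => chkFix tab mwords u) u = true := ext_range (a := 14280) (len := 56) h255 m2_255
  have h257 : ∀ u < 14392, (fun u => chkFix tab mwords u) u = true := ext_range (a := 14336) (len := 56) h256 m2_256
  have h258 : ∀ u < 14448, (fun u => chkFix tab mwords u) u = true := ext_range (a := 14392) (len := 56) h257 m2_257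
  have h259 : ∀ u < 14504, (fun u => chkFix tab mwords u) u = true := ext_range (a := 14448) (len := 56) h258 m2_258
  have h260 : ∀ u < 14560, (fun u => chkFix tab mwords u) u = true := ext_range (a := 14504) (len := 56) h259 m2_259
  have h261 : ∀ u < 14616, (fun u => chkFix tab mwords u) u = true := ext_range (a := 14560) (len := 56) h260 m2_260
  have h262 : ∀ u < 14672, (fun u => chkFix tab mwords u) u = true := ext_range (a := 14616) (len := 56) h261 m2_261
  have h263 : ∀ u < 14728, (fun u => chkFix tab mwords u) u = true := ext_range (a := 14672) (len := 56) h262 m2_262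
  have h264 : ∀ u < 14784, (fun u => chkFix tab mwords u) u = true := ext_range (a := 14728) (len := 56) h263 m2_263
  have h265 : ∀ u < 14840, (fun u => chkFix tab mwords u) u = true := ext_range (a := 14784) (len := 56) h264 m2_264
  have h266 : ∀ u < 14896, (fun u => chkFix tab mwords u) u = true := ext_range (a := 14840) (len := 56) h265 m2_265
  have h267 : ∀ u < 14952, (fun u => chkFix tab mwords u) u = true := ext_range (a := 14896) (len := 56) h266 m2_266
  have h268 : ∀ u < 15008, (fun u => chkFix tab mwords u) u = true := ext_range (a := 14952) (len := 56) h267 m2_267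
  have h269 : ∀ u < 15064, (fun u => chkFix tab mwords u) u = true := ext_range (a := 15008) (len := 56) h268 m2_268
  have h270 : ∀ u < 15120, (fun u => chkFix tab mwords u) u = true := ext_range (a := 15064) (len := 56) h269 m2_269
  have h271 : ∀ u < 15176, (fun u => chkFix tab mwords u) u = true := ext_range (a := 15120) (len := 56) h270 m2_270
  have h272 : ∀ u < 15232, (fun u => chkFix tab mwords u) u = true := ext_range (a := 15176) (len := 56) h271 m2_271
  have h273 : ∀ u < 15288, (fun u => chkFix tab mwords u) u = true := ext_range (a := 15232) (len := 56) h272 m2_272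
  have h274 : ∀ u < 15344, (fun u => chkFix tab mwords u) u = true := ext_range (a := 15288) (len := 56) h273 m2_273
  have h275 : ∀ u < 15400, (fun u => chkFix tab mwords u) u = true := ext_range (a := 15344) (len := 56) h274 m2_274
  have h276 : ∀ u < 15456, (fun u => chkFix tab mwords u) u = true := ext_range (a := 15400) (len := 56) h275 m2_275
  have h277 : ∀ u < 15512, (fun u => chkFix tab mwords u) u = true := ext_range (a := 15456) (len := 56) h276 m2_276
  have h278 : ∀ u < 15568, (fun u => chkFix tab mwords u) u = true := ext_range (a := 15512) (len := 56) h277 m2_277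
  have h279 : ∀ u < 15624, (fun u => chkFix tab mwords u) u = true := ext_range (a := 15568) (len := 56) h278 m2_278
  have h280 : ∀ u < 15680, (fun u => chkFix tab mwords u) u = true := ext_range (a := 15624) (len := 56) h279 m2_279
  have h281 : ∀ u < 15736, (fun u => chkFix tab mwords u) u = true := ext_range (a := 15680) (len := 56) h280 m2_280
  have h282 : ∀ u < 15792, (fun u => chkFix tab mwords u) u = true := ext_range (a := 15736) (len := 56) h281 m2_281
  have h283 : ∀ u < 15848, (fun u => chkFix tab mwords u) u = true := ext_range (a := 15792) (len := 56) h282 m2_282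
  have h284 : ∀ u < 15904, (fun u => chkFix tab mwords u) u = true := ext_range (a := 15848) (len := 56) h283 m2_283
  have h285 : ∀ u < 15960, (fun u => chkFix tab mwords u) u = true := ext_range (a := 15904) (len := 56) h284 m2_284
  have h286 : ∀ u < 16016, (fun u => chkFix tab mwords u) u = true := ext_range (a := 15960) (len := 56) h285 m2_285
  have h287 : ∀ u < 16072, (fun u => chkFix tab mwords u) u = true := ext_range (a := 16016) (len := 56) h286 m2_286
  have h288 : ∀ u < 16128, (fun u => chkFix tab mwords u) u = true := ext_range (a := 16072) (len := 56) h287 m2_287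
  have h289 : ∀ u < 16184, (fun u => chkFix tab mwords u) u = true := ext_range (a := 16128) (len := 56) h288 m2_288
  have h290 : ∀ u < 16240, (fun u => chkFix tab mwords u) u = true := ext_range (a := 16184) (len := 56) h289 m2_289
  have h291 : ∀ u < 16296, (fun u => chkFix tab mwords u) u = true := ext_range (a := 16240) (len := 56) h290 m2_290
  have h292 : ∀ u < 16352, (fun u => chkFix tab mwords u) u = true := ext_range (a := 16296) (len := 56) h291 m2_291
  have h293 : ∀ u < 16408, (fun u => chkFix tab mwords u) u = true := ext_range (a := 16352) (len := 56) h292 m2_292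
  have h294 : ∀ u < 16464, (fun u => chkFix tab mwords u) u = true := ext_range (a := 16408) (len := 56) h293 m2_293
  have h295 : ∀ u < 16520, (fun u => chkFix tab mwords u) u = true := ext_range (a := 16464) (len := 56) h294 m2_294
  have h296 : ∀ u < 16576, (fun u => chkFix tab mwords u) u = true := ext_range (a := 16520) (len := 56) h295 m2_295
  have h297 : ∀ u < 16632, (fun u => chkFix tab mwords u) u = true := ext_range (a := 16576) (len := 56) h296 m2_296
  have h298 : ∀ u < 16688, (fun u => chkFix tab mwords u) u = true := ext_range (a := 16632) (len := 56) h297 m2_297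
  have h299 : ∀ u < 16744, (fun u => chkFix tab mwords u) u = true := ext_range (a := 16688) (len := 56) h298 m2_298
  have h300 : ∀ u < 16800, (fun u => chkFix tab mwords u) u = true := ext_range (a := 16744) (len := 56) h299 m2_299
  have h301 : ∀ u < 16856, (fun u => chkFix tab mwords u) u = true := ext_range (a := 16800) (len := 56) h300 m2_300
  have h302 : ∀ u < 16912, (fun u => chkFix tab mwords u) u = true := ext_range (a := 16856) (len := 56) h301 m2_301
  have h303 : ∀ u < 16968, (fun u => chkFix tab mwords u) u = true := ext_range (a := 16912) (len := 56) h302 m2_302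
  have h304 : ∀ u < 17024, (fun u => chkFix tab mwords u) u = true := ext_range (a := 16968) (len := 56) h303 m2_303
  have h305 : ∀ u < 17080, (fun u => chkFix tab mwords u) u = true := ext_range (a := 17024) (len := 56) h304 m2_304
  have h306 : ∀ u < 17136, (fun u => chkFix tab mwords u) u = true := ext_range (a := 17080) (len := 56) h305 m2_305
  have h307 : ∀ u < 17192, (fun u => chkFix tab mwords u) u = true := ext_range (a := 17136) (len := 56) h306 m2_306
  have h308 : ∀ u < 17248, (fun u => chkFix tab mwords u) u = true := ext_range (a := 17192) (len := 56) h307 m2_307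
  have h309 : ∀ u < 17304, (fun u => chkFix tab mwords u) u = true := ext_range (a := 17248) (len := 56) h308 m2_308
  have h310 : ∀ u < 17360, (fun u => chkFix tab mwords u) u = true := ext_range (a := 17304) (len := 56) h309 m2_309
  have h311 : ∀ u < 17416, (fun u => chkFix tab mwords u) u = true := ext_range (a := 17360) (len := 56) h310 m2_310
  have h312 : ∀ u < 17472, (fun u => chkFix tab mwords u) u = true := ext_range (a := 17416) (len := 56) h311 m2_311
  have h313 : ∀ u < 17528, (fun u => chkFix tab mwords u) u = true := ext_range (a := 17472) (len := 56) h312 m2_312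
  have h314 : ∀ u < 17584, (fun u => chkFix tab mwords u) u = true := ext_range (a := 17528) (len := 56) h313 m2_313
  have h315 : ∀ u < 17640, (fun u => chkFix tab mwords u) u = true := ext_range (a := 17584) (len := 56) h314 m2_314
  have h316 : ∀ u < 17696, (fun u => chkFix tab mwords u) u = true := ext_range (a := 17640) (len := 56) h315 m2_315
  have h317 : ∀ u < 17752, (fun u => chkFix tab mwords u) u = true := ext_range (a := 17696) (len := 56) h316 m2_316
  have h318 : ∀ u < 17808, (fun u => chkFix tab mwords u) u = true := ext_range (a := 17752) (len := 56) h317 m2_317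
  have h319 : ∀ u < 17864, (fun u => chkFix tab mwords u) u = true := ext_range (a := 17808) (len := 56) h318 m2_318
  have h320 : ∀ u < 17920, (fun u => chkFix tab mwords u) u = true := ext_range (a := 17864) (len := 56) h319 m2_319
  have h321 : ∀ u < 17976, (fun u => chkFix tab mwords u) u = true := ext_range (a := 17920) (len := 56) h320 m2_320
  have h322 : ∀ u < 18032, (fun u => chkFix tab mwords u) u = true := ext_range (a := 17976) (len := 56) h321 m2_321
  have h323 : ∀ u < 18088, (fun u => chkFix tab mwords u) u = true := ext_range (a := 18032) (len := 56) h322 m2_322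
  have h324 : ∀ u < 18144, (fun u => chkFix tab mwords u) u = true := ext_range (a := 18088) (len := 56) h323 m2_323
  have h325 : ∀ u < 18200, (fun u => chkFix tab mwords u) u = true := ext_range (a := 18144) (len := 56) h324 m2_324
  have h326 : ∀ u < 18256, (fun u => chkFix tab mwords u) u = true := ext_range (a := 18200) (len := 56) h325 m2_325
  have h327 : ∀ u < 18312, (fun u => chkFix tab mwords u) u = true := ext_range (a := 18256) (len := 56) h326 m2_326
  have h328 : ∀ u < 18368, (fun u => chkFix tab mwords u) u = true := ext_range (a := 18312) (len := 56) h327 m2_327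
  have h329 : ∀ u < 18424, (fun u => chkFix tab mwords u) u = true := ext_range (a := 18368) (len := 56) h328 m2_328
  have h330 : ∀ u < 18480, (fun u => chkFix tab mwords u) u = true := ext_range (a := 18424) (len := 56) h329 m2_329
  have h331 : ∀ u < 18536, (fun u => chkFix tab mwords u) u = true := ext_range (a := 18480) (len := 56) h330 m2_330
  have h332 : ∀ u < 18592, (fun u => chkFix tab mwords u) u = true := ext_range (a := 18536) (len := 56) h331 m2_331
  have h333 : ∀ u < 18648, (fun u => chkFix tab mwords u) u = true := ext_range (a := 18592) (len := 56) h332 m2_332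
  have h334 : ∀ u < 18704, (fun u => chkFix tab mwords u) u = true := ext_range (a := 18648) (len := 56) h333 m2_333
  have h335 : ∀ u < 18760, (fun u => chkFix tab mwords u) u = true := ext_range (a := 18704) (len := 56) h334 m2_334
  have h336 : ∀ u < 18816, (fun u => chkFix tab mwords u) u = true := ext_range (a := 18760) (len := 56) h335 m2_335
  have h337 : ∀ u < 18872, (fun u => chkFix tab mwords u) u = true := ext_range (a := 18816) (len := 56) h336 m2_336
  have h338 : ∀ u < 18928, (fun u => chkFix tab mwords u) u = true := ext_range (a := 18872) (len := 56) h337 m2_337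
  have h339 : ∀ u < 18984, (fun u => chkFix tab mwords u) u = true := ext_range (a := 18928) (len := 56) h338 m2_338
  have h340 : ∀ u < 19040, (fun u => chkFix tab mwords u) u = true := ext_range (a := 18984) (len := 56) h339 m2_339
  have h341 : ∀ u < 19096, (fun u => chkFix tab mwords u) u = true := ext_range (a := 19040) (len := 56) h340 m2_340
  have h342 : ∀ u < 19152, (fun u => chkFix tab mwords u) u = true := ext_range (a := 19096) (len := 56) h341 m2_341
  have h343 : ∀ u < 19208, (fun u => chkFix tab mwords u) u = true := ext_range (a := 19152) (len := 56) h342 m2_342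
  have h344 : ∀ u < 19264, (fun u => chkFix tab mwords u) u = true := ext_range (a := 19208) (len := 56) h343 m2_343
  have h345 : ∀ u < 19320, (fun u => chkFix tab mwords u) u = true := ext_range (a := 19264) (len := 56) h344 m2_344
  have h346 : ∀ u < 19376, (fun u => chkFix tab mwords u) u = true := ext_range (a := 19320) (len := 56) h345 m2_345
  have h347 : ∀ u < 19432, (fun u => chkFix tab mwords u) u = true := ext_range (a := 19376) (len := 56) h346 m2_346
  have h348 : ∀ u < 19488, (fun u => chkFix tab mwords u) u = true := ext_range (a := 19432) (len := 56) h347 m2_347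
  have h349 : ∀ u < 19544, (fun u => chkFix tab mwords u) u = true := ext_range (a := 19488) (len := 56) h348 m2_348
  have h350 : ∀ u < 19600, (fun u => chkFix tab mwords u) u = true := ext_range (a := 19544) (len := 56) h349 m2_349
  have h351 : ∀ u < 19656, (fun u => chkFix tab mwords u) u = true := ext_range (a := 19600) (len := 56) h350 m2_350
  have h352 : ∀ u < 19712, (fun u => chkFix tab mwords u) u = true := ext_range (a := 19656) (len := 56) h351 m2_351
  have h353 : ∀ u < 19768, (fun u => chkFix tab mwords u) u = true := ext_range (a := 19712) (len := 56) h352 m2_352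
  have h354 : ∀ u < 19824, (fun u => chkFix tab mwords u) u = true := ext_range (a := 19768) (len := 56) h353 m2_353
  have h355 : ∀ u < 19880, (fun u => chkFix tab mwords u) u = true := ext_range (a := 19824) (len := 56) h354 m2_354
  have h356 : ∀ u < 19936, (fun u => chkFix tab mwords u) u = true := ext_range (a := 19880) (len := 56) h355 m2_355
  have h357 : ∀ u < 19992, (fun u => chkFix tab mwords u) u = true := ext_range (a := 19936) (len := 56) h356 m2_356
  have h358 : ∀ u < 20048, (fun u => chkFix tab mwords u) u = true := ext_range (a := 19992) (len := 56) h357 m2_357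
  have h359 : ∀ u < 20104, (fun u => chkFix tab mwords u) u = true := ext_range (a := 20048) (len := 56) h358 m2_358
  have h360 : ∀ u < 20160, (fun u => chkFix tab mwords u) u = true := ext_range (a := 20104) (len := 56) h359 m2_359
  have h361 : ∀ u < 20216, (fun u => chkFix tab mwords u) u = true := ext_range (a := 20160) (len := 56) h360 m2_360
  have h362 : ∀ u < 20272, (fun u => chkFix tab mwords u) u = true := ext_range (a := 20216) (len := 56) h361 m2_361
  have h363 : ∀ u < 20328, (fun u => chkFix tab mwords u) u = true := ext_range (a := 20272) (len := 56) h362 m2_362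
  have h364 : ∀ u < 20384, (fun u => chkFix tab mwords u) u = true := ext_range (a := 20328) (len := 56) h363 m2_363
  have h365 : ∀ u < 20440, (fun u => chkFix tab mwords u) u = true := ext_range (a := 20384) (len := 56) h364 m2_364
  have h366 : ∀ u < 20496, (fun u => chkFix tab mwords u) u = true := ext_range (a := 20440) (len := 56) h365 m2_365
  have h367 : ∀ u < 20552, (fun u => chkFix tab mwords u) u = true := ext_range (a := 20496) (len := 56) h366 m2_366
  have h368 : ∀ u < 20608, (fun u => chkFix tab mwords u) u = true := ext_range (a := 20552) (len := 56) h367 m2_367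
  have h369 : ∀ u < 20664, (fun u => chkFix tab mwords u) u = true := ext_range (a := 20608) (len := 56) h368 m2_368
  have h370 : ∀ u < 20720, (fun u => chkFix tab mwords u) u = true := ext_range (a := 20664) (len := 56) h369 m2_369
  have h371 : ∀ u < 20776, (fun u => chkFix tab mwords u) u = true := ext_range (a := 20720) (len := 56) h370 m2_370
  have h372 : ∀ u < 20832, (fun u => chkFix tab mwords u) u = true := ext_range (a := 20776) (len := 56) h371 m2_371
  have h373 : ∀ u < 20888, (fun u => chkFix tab mwords u) u = true := ext_range (a := 20832) (len := 56) h372 m2_372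
  have h374 : ∀ u < 20944, (fun u => chkFix tab mwords u) u = true := ext_range (a := 20888) (len := 56) h373 m2_373
  have h375 : ∀ u < 21000, (fun u => chkFix tab mwords u) u = true := ext_range (a := 20944) (len := 56) h374 m2_374
  have h376 : ∀ u < 21056, (fun u => chkFix tab mwords u) u = true := ext_range (a := 21000) (len := 56) h375 m2_375
  have h377 : ∀ u < 21112, (fun u => chkFix tab mwords u) u = true := ext_range (a := 21056) (len := 56) h376 m2_376
  have h378 : ∀ u < 21168, (fun u => chkFix tab mwords u) u = true := ext_range (a := 21112) (len := 56) h377 m2_377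
  have h379 : ∀ u < 21224, (fun u => chkFix tab mwords u) u = true := ext_range (a := 21168) (len := 56) h378 m2_378
  have h380 : ∀ u < 21280, (fun u => chkFix tab mwords u) u = true := ext_range (a := 21224) (len := 56) h379 m2_379
  have h381 : ∀ u < 21336, (fun u => chkFix tab mwords u) u = true := ext_range (a := 21280) (len := 56) h380 m2_380
  have h382 : ∀ u < 21392, (fun u => chkFix tab mwords u) u = true := ext_range (a := 21336) (len := 56) h381 m2_381
  have h383 : ∀ u < 21448, (fun u => chkFix tab mwords u) u = true := ext_range (a := 21392) (len := 56) h382 m2_382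
  have h384 : ∀ u < 21504, (fun u => chkFix tab mwords u) u = true := ext_range (a := 21448) (len := 56) h383 m2_383
  have h385 : ∀ u < 21560, (fun u => chkFix tab mwords u) u = true := ext_range (a := 21504) (len := 56) h384 m2_384
  have h386 : ∀ u < 21616, (fun u => chkFix tab mwords u) u = true := ext_range (a := 21560) (len := 56) h385 m2_385
  have h387 : ∀ u < 21672, (fun u => chkFix tab mwords u) u = true := ext_range (a := 21616) (len := 56) h386 m2_386
  have h388 : ∀ u < 21728, (fun u => chkFix tab mwords u) u = true := ext_range (a := 21672) (len := 56) h387 m2_387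
  have h389 : ∀ u < 21784, (fun u => chkFix tab mwords u) u = true := ext_range (a := 21728) (len := 56) h388 m2_388
  have h390 : ∀ u < 21840, (fun u => chkFix tab mwords u) u = true := ext_range (a := 21784) (len := 56) h389 m2_389
  have h391 : ∀ u < 21896, (fun u => chkFix tab mwords u) u = true := ext_range (a := 21840) (len := 56) h390 m2_390
  have h392 : ∀ u < 21952, (fun u => chkFix tab mwords u) u = true := ext_range (a := 21896) (len := 56) h391 m2_391
  have h393 : ∀ u < 22008, (fun u => chkFix tab mwords u) u = true := ext_range (a := 21952) (len := 56) h392 m2_392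
  have h394 : ∀ u < 22064, (fun u => chkFix tab mwords u) u = true := ext_range (a := 22008) (len := 56) h393 m2_393
  have h395 : ∀ u < 22120, (fun u => chkFix tab mwords u) u = true := ext_range (a := 22064) (len := 56) h394 m2_394
  have h396 : ∀ u < 22176, (fun u => chkFix tab mwords u) u = true := ext_range (a := 22120) (len := 56) h395 m2_395
  have h397 : ∀ u < 22232, (fun u => chkFix tab mwords u) u = true := ext_range (a := 22176) (len := 56) h396 m2_396
  have h398 : ∀ u < 22288, (fun u => chkFix tab mwords u) u = true := ext_range (a := 22232) (len := 56) h397 m2_397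
  have h399 : ∀ u < 22344, (fun u => chkFix tab mwords u) u = true := ext_range (a := 22288) (len := 56) h398 m2_398
  have h400 : ∀ u < 22400, (fun u => chkFix tab mwords u) u = true := ext_range (a := 22344) (len := 56) h399 m2_399
  have h401 : ∀ u < 22456, (fun u => chkFix tab mwords u) u = true := ext_range (a := 22400) (len := 56) h400 m2_400
  have h402 : ∀ u < 22512, (fun u => chkFix tab mwords u) u = true := ext_range (a := 22456) (len := 56) h401 m2_401
  have h403 : ∀ u < 22568, (fun u => chkFix tab mwords u) u = true := ext_range (a := 22512) (len := 56) h402 m2_402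
  have h404 : ∀ u < 22624, (fun u => chkFix tab mwords u) u = true := ext_range (a := 22568) (len := 56) h403 m2_403
  have h405 : ∀ u < 22680, (fun u => chkFix tab mwords u) u = true := ext_range (a := 22624) (len := 56) h404 m2_404
  have h406 : ∀ u < 22736, (fun u => chkFix tab mwords u) u = true := ext_range (a := 22680) (len := 56) h405 m2_405
  have h407 : ∀ u < 22792, (fun u => chkFix tab mwords u) u = true := ext_range (a := 22736) (len := 56) h406 m2_406
  have h408 : ∀ u < 22848, (fun u => chkFix tab mwords u) u = true := ext_range (a := 22792) (len := 56) h407 m2_407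
  have h409 : ∀ u < 22880, (fun u => chkFix tab mwords u) u = true := ext_range (a := 22848) (len := 32) h408 m2_408
  exact h409

theorem hE : ∀ c < 7, ∀ u < 33387, chkE tab c u = true := by
  intro c hc
  interval_cases c
  · exact hE0
  · exact hE1
  · exact hE2
  · exact hE3
  · exact hE4
  · exact hE5
  · exact hE6

end Cfsg.Agent.Helper9.TCData.X1681
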