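import Cfsg.Agent.Lib.Helper9.TCData.X1681.Main

set_option autoImplicit false
set_option maxRecDepth 1000000

namespace Cfsg.Agent.Helper9.TCData.X1681
open Cfsg.Agent.Helper9.TC2

theorem m2_182 : allRange 10192 56 (fun u => chkFix tab mwords u) = true := by decide +kernel

theorem m2_183 : allRange 10248 56 (fun u => chkFix tab mwords u) = true := by decide +kernel

theorem m2_184 : allRange 10304 56 (fun u => chkFix tab mwords u) = true := by decide +kernel

theorem m2_185 : allRange 10360 56 (fun u => chkFix tab mwords u) = true := by decide +kernel

theorem m2_186 : allRange 10416 56 (fun u => chkFix tab mwords u) = true := by decide +kernel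

theorem m2_187 : allRange 10472 56 (fun u => chkFix tab mwords u) = true := by decide +kernel

theorem m2_188 : allRange 10528 56 (fun u => chkFix tab mwords u) = true := by decide +kernel

theorem m2_189 : allRange 10584 56 (fun u => chkFix tab mwords u) = true := by decide +kernel


end Cfsg.Agent.Helper9.TCData.X1681
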